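import Cfsg.Agent.A7Order.PermCheck
import Mathlib

/-!
# Reading the finite check on permutations of `Fin 15`
-/

set_option autoImplicit false

namespace CfsgLib.A7Order

open Equiv

theorem app_pack {f : ℕ → ℕ} (hf : ∀ i < 15, f i < 16) {i : ℕ} (hi : i < 15) : app (pack f) i = f i := by
  have := hf 0 (by omega); have := hf 1 (by omega); have := hf 2 (by omega); have := hf 3 (by omega)
  have := hf 4 (by omega); have := hf 5 (by omega); have := hf 6 (by omega); have := hf 7 (by omega)
  have := hf 8 (by omega); have := hf 9 (by omega); have := hf 10 (by omega); have := hf 11 (by omega)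
  have := hf 12 (by omega); have := hf 13 (by omega); have := hf 14 (by omega)
  interval_cases i <;>
    simp only [app, pack, List.foldl_cons, List.foldl_nil, Nat.shiftRight_eq_div_pow, Nat.reduceMul, Nat.reducePow] <;>
    omega

theorem pack_congr {f g : ℕ → ℕ} (h : ∀ i < 15, f i = g i) : pack f = pack g := by
  simp only [pack, List.foldl_cons, List.foldl_nil, h 0 (by omega), h 1 (by omega), h 2 (by omega), h 3 (by omega),
    h 4 (by omega), h 5 (by omega), h 6 (by omega), h 7 (by omega), h 8 (by omega), h 9 (by omega), h 10 (by omega),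
    h 11 (by omega), h 12 (by omega), h 13 (by omega), h 14 (by omega)]

/-- The packed form of a permutation. -/
def code (σ : Perm (Fin 15)) : ℕ := pack fun i => if h : i < 15 then (σ ⟨i, h⟩ : ℕ) else 15

theorem app_code (σ : Perm (Fin 15)) (i : Fin 15) : app (code σ) i = σ i := by
  rw [code, app_pack (fun j hj => ?_) i.2]
  · simp
  · simp only [hj, dite_true]
    exact lt_trans (σ ⟨j, hj⟩).2 (by norm_num)

theorem code_injective : Function.Injective code := fun σ τ h =>
  Equiv.ext fun i => Fin.ext (by rw [← app_code σ i, h, app_code])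

theorem code_mul (σ τ : Perm (Fin 15)) : code (σ * τ) = comp (code σ) (code τ) := by
  refine pack_congr fun i hi => ?_
  rw [dif_pos hi, show app (code τ) i = _ from app_code τ ⟨i, hi⟩, app_code σ]
  rfl

theorem code_one : code 1 = idP := pack_congr fun i hi => by simp [hi]

theorem code_sqs (σ : Perm (Fin 15)) : ∀ n, sqs (code σ) n = code (σ ^ 2 ^ n)
  | 0 => by simp [sqs]
  | n + 1 => by
    rw [sqs, ← code_mul, code_sqs (σ * σ) n, ← pow_two, ← pow_mul, ← pow_succ']

theorem goodOrder_code {σ : Perm (Fin 15)} (h : σ ^ 5 = 1 ∨ σ ^ 7 = 1 ∨ σ ^ 72 = 1) : goodOrder (code σ) = true := by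
  simp only [goodOrder, code_sqs, ← code_mul, Bool.or_eq_true, Nat.beq_eq, ← code_one, code_injective.eq_iff]
  rcases h with h | h | h
  · left; left; exact (Eq.trans (by simp [pow_succ, mul_assoc]) h)
  · left; right; exact (Eq.trans (by simp [pow_succ, mul_assoc]) h)
  · right
    rw [← pow_succ]
    refine Eq.trans ?_ h
    simp only [← pow_two, ← pow_mul]
    norm_num

/-- The element of order seven. -/
def permU : Perm (Fin 15) where
  toFun := ![0, 2, 3, 4, 5, 6, 7, 1, 9, 10, 11, 12, 13, 14, 8]
  invFun := ![0, 7, 1, 2, 3, 4, 5, 6, 14, 8, 9, 10, 11, 12, 13]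
  left_inv := by decide
  right_inv := by decide

/-- The element of order three. -/
def permR : Perm (Fin 15) where
  toFun := ![0, 1, 3, 5, 7, 2, 4, 6, 8, 10, 12, 14, 9, 11, 13]
  invFun := ![0, 1, 5, 2, 6, 3, 7, 4, 8, 12, 9, 13, 10, 14, 11]
  left_inv := by decide
  right_inv := by decide

/-- The model completion. -/
def permK : Perm (Fin 15) where
  toFun := ![1, 8, 4, 7, 11, 6, 13, 14, 0, 9, 10, 2, 12, 5, 3]
  invFun := ![8, 0, 11, 14, 2, 13, 5, 3, 1, 9, 10, 4, 12, 6, 7]
  left_inv := by decide
  right_inv := by decide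

/-- The scaling map. -/
def permThree : Perm (Fin 15) where
  toFun := ![0, 1, 4, 7, 3, 6, 2, 5, 8, 11, 14, 10, 13, 9, 12]
  invFun := ![0, 1, 6, 4, 2, 7, 5, 3, 8, 13, 11, 9, 14, 12, 10]
  left_inv := by decide
  right_inv := by decide

/-- The exchange of the two orbits. -/
def permSwap : Perm (Fin 15) where
  toFun := ![0, 8, 9, 10, 11, 12, 13, 14, 1, 2, 3, 4, 5, 6, 7]
  invFun := ![0, 8, 9, 10, 11, 12, 13, 14, 1, 2, 3, 4, 5, 6, 7]
  left_inv := by decide
  right_inv := by decide

/-- The conjugating permutations. -/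
def conjPerms : List (Perm (Fin 15)) := [1, permThree, permSwap * permThree, permSwap]

/-- The target permutations. -/
def targetPerms : List (Perm (Fin 15)) :=
  [permK, permK * permR, permK * (permR * permR), permK * permK, permK * permK * permR, permK * permK * (permR * permR)]

theorem code_permU : code permU = uP := by decide +kernel
theorem code_permU_inv : code (permU ^ 6) = uI := by decide +kernel
theorem code_permR : code permR = rP := by decide +kernel
theorem code_conjPerms : conjPerms.map code = conjs := by decide +kernel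
theorem code_targetPerms : targetPerms.map code = targets := by decide +kernel

theorem fixed_permR : ∀ x : Fin 15, permR x = x → x = 0 ∨ x = 1 ∨ x = 8 := by decide +kernel
theorem moved_permR : ∀ x : Fin 15, permR x ≠ x → (x : ℕ) ∈ moved := by decide +kernel
theorem orbit_permR : ∀ x y : Fin 15, permR x ≠ x → permR y ≠ y → orbitOf (x : ℕ) = orbitOf (y : ℕ) →
    y = x ∨ y = permR x ∨ y = permR (permR x) := by decide +kernel
theorem permR_app : ∀ x : Fin 15, app rP (x : ℕ) = (permR x : ℕ) := by decide +kernel

/-- The completion is one of the candidates. -/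
theorem code_eq_cand {σ : Perm (Fin 15)} (hc : σ * permR = permR * σ) (h0 : σ 0 = 1) (h1 : σ 1 = 8) (h8 : σ 8 = 0) :
    code σ = cand (σ 2) (σ 4) (σ 9) (σ 11) := by
  have hx : ∀ x, σ (permR x) = permR (σ x) := fun x => Perm.congr_fun hc x
  have e3 : σ 3 = permR (σ 2) := hx 2
  have e5 : σ 5 = permR (permR (σ 2)) := (hx 3).trans (congrArg permR e3)
  have e7 : σ 7 = permR (σ 4) := hx 4
  have e6 : σ 6 = permR (permR (σ 4)) := (hx 7).trans (congrArg permR e7)
  have e10 : σ 10 = permR (σ 9) := hx 9
  have e12 : σ 12 = permR (permR (σ 9)) := (hx 10).trans (congrArg permR e10)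
  have e14 : σ 14 = permR (σ 11) := hx 11
  have e13 : σ 13 = permR (permR (σ 11)) := (hx 14).trans (congrArg permR e14)
  refine pack_congr fun i hi => ?_
  rw [dif_pos hi]
  simp only [permR_app]
  interval_cases i <;>
    first
      | exact congrArg Fin.val h0 | exact congrArg Fin.val h1 | exact congrArg Fin.val h8
      | rfl
      | exact congrArg Fin.val e3 | exact congrArg Fin.val e5 | exact congrArg Fin.val e7 | exact congrArg Fin.val e6
      | exact congrArg Fin.val e10 | exact congrArg Fin.val e12 | exact congrArg Fin.val e14 | exact congrArg Fin.val e13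

/-- The check applies: some listed map carries a completion into the targets. -/
theorem exists_conj {σ : Perm (Fin 15)} (hc : σ * permR = permR * σ) (h0 : σ 0 = 1) (h1 : σ 1 = 8) (h8 : σ 8 = 0)
    (h9 : σ ^ 9 = 1)
    (hw : ∀ w ∈ [permU * (σ * permR), permU * (σ * (σ * permR)), permU * (permU * (σ ^ 8 * (permU * σ))),
      permU ^ 6 * (σ * (σ * (permR * (permU ^ 6 * (σ * permR))))), permU * (σ * (permU * (σ * (permU * σ ^ 8))))],
      w ^ 5 = 1 ∨ w ^ 7 = 1 ∨ w ^ 72 = 1) :
    ∃ C ∈ conjPerms, ∃ t ∈ targetPerms, C * σ = t * C := by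
  have hmv : ∀ x, permR x ≠ x → permR (σ x) ≠ σ x := fun x hx e => hx (σ.injective (by
    rw [← Perm.mul_apply, hc, Perm.mul_apply, e]))
  have horb : ∀ x y, permR x ≠ x → permR y ≠ y → y ≠ x → y ≠ permR x → y ≠ permR (permR x) →
      (orbitOf (σ x : ℕ) == orbitOf (σ y : ℕ)) = false := by
    intro x y hx hy n1 n2 n3
    rw [beq_eq_false_iff_ne]
    intro e
    rcases orbit_permR _ _ (hmv x hx) (hmv y hy) e with e' | e' | e'
    · exact n1 (σ.injective e')
    · exact n2 (σ.injective (e'.trans (Perm.congr_fun hc x).symm))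
    · exact n3 (σ.injective (e'.trans ((congrArg permR (Perm.congr_fun hc x).symm).trans
        (Perm.congr_fun hc (permR x)).symm)))
  have m : ∀ x, permR x ≠ x → (σ x : ℕ) ∈ moved := fun x hx => moved_permR _ (hmv x hx)
  have hk := checkAll_eq
  simp only [checkAll, List.all_eq_true] at hk
  have hk1 := hk _ (m 2 (by decide)) _ (m 4 (by decide))
  rw [horb 2 4 (by decide) (by decide) (by decide) (by decide) (by decide), Bool.false_or, List.all_eq_true] at hk1
  have hk2 := hk1 _ (m 9 (by decide))
  rw [horb 2 9 (by decide) (by decide) (by decide) (by decide) (by decide),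
    horb 4 9 (by decide) (by decide) (by decide) (by decide) (by decide), Bool.false_or, Bool.false_or,
    List.all_eq_true] at hk2
  have hk3 := hk2 _ (m 11 (by decide))
  rw [horb 2 11 (by decide) (by decide) (by decide) (by decide) (by decide),
    horb 4 11 (by decide) (by decide) (by decide) (by decide) (by decide),
    horb 9 11 (by decide) (by decide) (by decide) (by decide) (by decide), Bool.false_or, Bool.false_or,
    Bool.false_or] at hk3
  rw [checkCand, ← code_eq_cand hc h0 h1 h8] at hk3
  have e8 : sqs (comp (code σ) (code σ)) 2 = code (σ ^ 8) := by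
    rw [← code_mul, code_sqs, ← pow_two, ← pow_mul]; rfl
  simp only [e8, Bool.or_eq_true, Bool.not_eq_true', Bool.and_eq_false_iff] at hk3
  rcases hk3 with (hk3 | hk3) | hk3
  · exfalso
    rw [← code_mul, ← pow_succ, h9, code_one] at hk3
    simp at hk3
  · exfalso
    simp only [wordsOk, ← code_permU, ← code_permU_inv, ← code_permR, ← code_mul, Bool.and_eq_false_iff] at hk3
    rcases hk3 with (((hk3 | hk3) | hk3) | hk3) | hk3 <;>
      rw [goodOrder_code (hw _ (by simp))] at hk3 <;> exact absurd hk3 (by simp)
  · simp only [normalizes, ← code_conjPerms, ← code_targetPerms, List.any_map, List.any_eq_true, Function.comp_apply,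
      ← code_mul, Nat.beq_eq, code_injective.eq_iff] at hk3
    exact hk3

theorem conjPerms_facts : ∀ C ∈ conjPerms, C * permR = permR * C ∧
    ∃ j i : ℕ, C * permU = permU ^ j * C ∧ (permU ^ j) ^ i = permU := by
  intro C hC
  simp only [conjPerms, List.mem_cons, List.not_mem_nil, or_false] at hC
  rcases hC with rfl | rfl | rfl | rfl
  · exact ⟨by decide +kernel, 1, 1, by decide +kernel, by decide +kernel⟩
  · exact ⟨by decide +kernel, 3, 5, by decide +kernel, by decide +kernel⟩
  · exact ⟨by decide +kernel, 3, 5, by decide +kernel, by decide +kernel⟩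
  · exact ⟨by decide +kernel, 1, 1, by decide +kernel, by decide +kernel⟩

theorem targetPerms_facts : ∀ t ∈ targetPerms, (∃ i j : ℕ, permK = t ^ i * permR ^ j) ∧
    (∃ i j : ℕ, t = permK ^ i * permR ^ j) := by
  intro t ht
  simp only [targetPerms, List.mem_cons, List.not_mem_nil, or_false] at ht
  rcases ht with rfl | rfl | rfl | rfl | rfl | rfl
  · exact ⟨⟨1, 0, by decide +kernel⟩, 1, 0, by decide +kernel⟩
  · exact ⟨⟨1, 2, by decide +kernel⟩, 1, 1, by decide +kernel⟩
  · exact ⟨⟨1, 1, by decide +kernel⟩, 1, 2, by decide +kernel⟩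
  · exact ⟨⟨2, 0, by decide +kernel⟩, 2, 0, by decide +kernel⟩
  · exact ⟨⟨2, 1, by decide +kernel⟩, 2, 1, by decide +kernel⟩
  · exact ⟨⟨2, 2, by decide +kernel⟩, 2, 2, by decide +kernel⟩

end CfsgLib.A7Order
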