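import Cfsg.Agent.A7Order.Table
import Mathlib

/-!
# A subgroup of index 15 in a simple group of order 2520

Two elements of orders 2 and 3 with product of order 7 exist by counting in the table; Scott's
inequality in a representation of degree 14 shows that they generate a proper subgroup.
-/

set_option autoImplicit false
set_option linter.style.haveILetI false

namespace CfsgLib.A7Order

open Cfsg CfsgLib.Chars CfsgLib.SylowToolkit CfsgLib.Sieve.PrimeLocal Subgroup
open scoped ComplexConjugate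

universe u

variable {G : Type u} [Group G] [Fintype G]

/-- A sum over a cyclic group as a sum over a range. -/
theorem sum_zpowers_eq (g : G) [Fintype (zpowers g)] (F : G → ℂ) :
    ∑ x : zpowers g, F x = ∑ i ∈ Finset.range (orderOf g), F (g ^ i) := by
  classical
  symm
  refine Finset.sum_bij (fun i _ => (⟨g ^ i, Subgroup.pow_mem _ (mem_zpowers g) i⟩ : zpowers g))
    (fun i _ => Finset.mem_univ _) (fun i hi j hj e => ?_) (fun x _ => ?_) (fun i _ => rfl)
  · exact pow_injOn_Iio_orderOf (Finset.mem_range.1 hi) (Finset.mem_range.1 hj) (congrArg Subtype.val e)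
  · obtain ⟨i, hi, hix⟩ := Finset.mem_image.mp ((mem_zpowers_iff_mem_range_orderOf).mp x.2)
    exact ⟨i, hi, Subtype.ext hix⟩

variable [IsSimpleGroup G] (h : Nat.card G = 2520)

include h

/-- Integral values do not change on powers prime to the order, for elements of order seven. -/
theorem value_pow_seven (χ : IrrCharacter G) (hint : ∀ g : G, ∃ m : ℤ, (χ : G → ℂ) g = m) {g : G} (hg : orderOf g = 7)
    {i : ℕ} (hi : i < 7) (h0 : i ≠ 0) : (χ : G → ℂ) (g ^ i) = (χ : G → ℂ) g := by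
  obtain ⟨k, hk, hki⟩ : ∃ k : ℕ, k.Coprime (Nat.card G) ∧ k % 7 = i := by
    rw [h]
    have key : ∀ i ∈ Finset.range 7, i ≠ 0 → ∃ k ∈ [1, 23, 17, 11, 19, 13], k.Coprime 2520 ∧ k % 7 = i := by
      decide +kernel
    obtain ⟨k, -, hk⟩ := key i (Finset.mem_range.mpr hi) h0
    exact ⟨k, hk⟩
  obtain ⟨σ, hσ⟩ := CfsgLib.GaloisHom.exists_ringHom_char (Nat.card_pos (α := G)) hk
  have h1 := hσ (isCharacter_coe χ) g (orderOf_dvd_natCard g)
  obtain ⟨m, hm⟩ := hint g
  rw [hm, map_intCast, ← pow_mod_orderOf g k, hg, hki] at h1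
  rw [hm, h1]

namespace Table

variable (T : Table G)

omit [IsSimpleGroup G] h in
theorem int_of_unique {j : Fin 9} (hj : j = 1 ∨ j = 2) (g : G) : ∃ m : ℤ, (T.χ j : G → ℂ) g = m := by
  refine exists_int_of_unique _ (fun ψ hψ => ?_) g
  obtain ⟨k, rfl⟩ := T.bij.2 ψ
  rw [T.deg, T.deg] at hψ
  have key : ∀ k j : Fin 9, (j = 1 ∨ j = 2) → degs k = degs j → k = j := by decide +kernel
  rw [key k j hj hψ]

theorem exists_three : ∃ s : G, orderOf s = 3 ∧ (T.χ 2 : G → ℂ) s = 0 := by
  classical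
  haveI : Fact (Nat.Prime 7) := ⟨by norm_num⟩
  haveI : Fact (Nat.Prime 3) := ⟨Nat.prime_three⟩
  obtain ⟨R, hR⟩ := exists_zpowers_eq_sylow (seven_local h) T.hu
  have hN := card_normalizer_mul R
  rw [(seven_local h).1, h] at hN
  obtain ⟨⟨s, hsN⟩, hs⟩ := exists_prime_orderOf_dvd_card' (G := normalizer ((R : Subgroup G) : Set G)) 3 (by omega)
  rw [orderOf_mk] at hs
  refine ⟨s, hs, ?_⟩
  set H := zpowers T.u with hH
  have hH7 : Nat.card H = 7 := by rw [hH, Nat.card_zpowers, T.hu]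
  have hsum : ∑ x : H, (T.χ 2 : G → ℂ) x = 0 := by
    refine (sum_zpowers_eq T.u (fun x => (T.χ 2 : G → ℂ) x)).trans ?_
    rw [T.hu, Finset.sum_range_succ', pow_zero, T.map_one_eq,
      Finset.sum_congr rfl (g := fun _ => (-1 : ℂ)) fun i hi => by
        rw [value_pow_seven h _ (T.int_of_unique (.inr rfl)) T.hu (by
          have := Finset.mem_range.mp hi; omega) (by omega), T.val₂]]
    simp [degs]
  have hz := sum_coset_eq_zero (T.χ 2) H hsum s
  -- every element of the coset is conjugate to `s`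
  have hnorm : ∀ x ∈ H, s⁻¹ * x * s ∈ H := by
    intro x hx
    rw [← hR] at hx ⊢
    have h1 := (mem_normalizer_iff.mp (inv_mem hsN) x).mp hx
    rwa [inv_inv] at h1
  let f : H → H := fun y => ⟨s⁻¹ * (y : G) * s * (y : G)⁻¹, mul_mem (hnorm _ y.2) (inv_mem y.2)⟩
  have hcomm : ∀ a b : H, Commute (a : G) b := by
    intro a b
    obtain ⟨i, hi⟩ := mem_zpowers_iff.mp a.2
    obtain ⟨j, hj⟩ := mem_zpowers_iff.mp b.2
    rw [← hi, ← hj]
    exact Commute.zpow_zpow (Commute.refl _) i j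
  have hf : Function.Injective f := by
    intro a b e
    have e' : s⁻¹ * (a : G) * s * (a : G)⁻¹ = s⁻¹ * (b : G) * s * (b : G)⁻¹ := congrArg Subtype.val e
    by_contra hne
    set c : G := (b : G)⁻¹ * a with hc
    have hcH : c ∈ H := mul_mem (inv_mem b.2) a.2
    have hc1 : c ≠ 1 := fun e1 => hne (Subtype.ext (inv_mul_eq_one.mp e1).symm)
    have hsc : Commute c s := by
      have h1 : (b : G)⁻¹ * a * s = s * ((b : G)⁻¹ * a) := by
        have h2 : (b : G)⁻¹ * (s * (s⁻¹ * (a : G) * s * (a : G)⁻¹)) * a =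
            (b : G)⁻¹ * (s * (s⁻¹ * (b : G) * s * (b : G)⁻¹)) * a := by rw [e']
        calc (b : G)⁻¹ * a * s = (b : G)⁻¹ * (s * (s⁻¹ * (a : G) * s * (a : G)⁻¹)) * a := by group
          _ = (b : G)⁻¹ * (s * (s⁻¹ * (b : G) * s * (b : G)⁻¹)) * a := h2
          _ = s * ((b : G)⁻¹ * a) := by group
      exact h1
    have hc7 : orderOf c = 7 := by
      have := Subgroup.orderOf_dvd_natCard _ hcH
      rw [hH7, Nat.dvd_prime (by norm_num)] at this
      exact this.resolve_left fun e1 => hc1 (orderOf_eq_one_iff.mp e1)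
    have := Subgroup.orderOf_dvd_natCard _ (mem_centralizer_singleton_iff.mpr hsc.eq.symm : s ∈ centralizer ({c} : Set G))
    rw [centralizer_seven h hc7, hs] at this
    norm_num at this
  have hall : ∀ x : H, (T.χ 2 : G → ℂ) (s * x) = (T.χ 2 : G → ℂ) s := by
    intro x
    obtain ⟨y, rfl⟩ := (Finite.injective_iff_surjective.mp hf) x
    show (T.χ 2 : G → ℂ) (s * (s⁻¹ * (y : G) * s * (y : G)⁻¹)) = _
    rw [show s * (s⁻¹ * (y : G) * s * (y : G)⁻¹) = (y : G) * s * (y : G)⁻¹ by group]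
    exact isClassFunction_coe (T.χ 2) _ _
  rw [Finset.sum_congr rfl fun x _ => hall x, Finset.sum_const, Finset.card_univ, ← Nat.card_eq_fintype_card, hH7,
    nsmul_eq_mul] at hz
  exact (mul_eq_zero.mp hz).resolve_left (by norm_num)

/-- The values on an element of order three with `χ 2 = 0`. -/
theorem value_three {t s : G} (ht : orderOf t = 2) (hs : orderOf s = 3) (h2 : (T.χ 2 : G → ℂ) s = 0) :
    ∃ A : ℤ, 0 ≤ A ∧ (T.χ 1 : G → ℂ) s = A ∧ (T.χ 3 : G → ℂ) s = ((1 + A : ℤ) : ℂ) ∧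
      (T.χ 4 : G → ℂ) s = ((1 + A : ℤ) : ℂ) ∧ (T.χ 5 : G → ℂ) s + (T.χ 6 : G → ℂ) s = ((1 + A : ℤ) : ℂ) ∧
      (T.χ 7 : G → ℂ) s = A ∧ (T.χ 8 : G → ℂ) s = ((-1 - 2 * A : ℤ) : ℂ) := by
  classical
  obtain ⟨A, hA⟩ := T.int_of_unique (.inl rfl) s
  have hs1 : s ≠ 1 := fun e => by rw [e, orderOf_one] at hs; norm_num at hs
  obtain ⟨r3, r4⟩ := T.rel7 s (by rw [hs]; norm_num)
  rw [hA, h2, sub_zero] at r3
  have h3 : (T.χ 3 : G → ℂ) s = ((1 + A : ℤ) : ℂ) := by rw [r3]; push_cast; ring
  have h4 : (T.χ 4 : G → ℂ) s = ((1 + A : ℤ) : ℂ) := by rw [r4, h3]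
  have r5 := T.rel5 s (by rw [hs]; norm_num)
  rw [h2] at r5
  have o1 := T.orth_one hs1
  rw [sum_nine, T.one_apply, hA, h2, h3, h4] at o1
  have o2 := sum_irr_mul_conj s t
  rw [if_neg (fun hc => by
    obtain ⟨d, hd⟩ := isConj_iff.mp hc
    have := orderOf_injective (MulAut.conj d).toMonoidHom (MulAut.conj d).injective s
    rw [show (MulAut.conj d).toMonoidHom s = d * s * d⁻¹ from rfl, hd, hs, ht] at this
    norm_num at this), T.sum_eq, sum_nine] at o2
  simp only [T.value_two h ht, map_intCast] at o2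
  rw [T.one_apply, hA, h2, h3, h4] at o2
  simp only [degs, tv, Matrix.cons_val_zero, Matrix.cons_val_one, Matrix.cons_val] at o1 o2
  push_cast at o1 o2
  have hS : (T.χ 5 : G → ℂ) s + (T.χ 6 : G → ℂ) s = ((1 + A : ℤ) : ℂ) := by
    push_cast
    linear_combination o1 / 140 + o2 / 4 - (2 / 5 : ℂ) * r5
  have h7 : (T.χ 7 : G → ℂ) s = A := by
    push_cast at hS
    linear_combination r5 + hS
  have h8 : (T.χ 8 : G → ℂ) s = ((-1 - 2 * A : ℤ) : ℂ) := by
    push_cast at hS ⊢
    linear_combination o1 / 35 - (14 / 35 : ℂ) * hS - (21 / 35 : ℂ) * h7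
  refine ⟨A, ?_, hA, h3, h4, hS, h7, h8⟩
  -- the sign
  obtain ⟨n, hn, hn3⟩ := CfsgLib.M11Order.exists_int_of_real_three (T.χ 1) hs (by rw [hA, map_intCast])
  have hnA : n = A := by rw [hA] at hn; exact_mod_cast hn.symm
  rw [T.deg, hnA] at hn3
  have hN := CfsgLib.M11Order.sum_triple t t s
  rw [h, T.sum_eq, sum_nine] at hN
  simp only [T.value_two h ht, T.map_one_eq] at hN
  have hc56 : conj ((T.χ 5 : G → ℂ) s) + conj ((T.χ 6 : G → ℂ) s) = ((1 + A : ℤ) : ℂ) := by
    rw [← map_add, hS, map_intCast]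
  rw [T.one_apply, hA, h2, h3, h4, h7, h8] at hN
  simp only [map_intCast, map_one, map_zero, degs, tv, Matrix.cons_val_zero, Matrix.cons_val_one, Matrix.cons_val] at hN
  set C := Nat.card (centralizer ({s} : Set G))
  set N := Nat.card {a : G // IsConj (t * (a * t * a⁻¹)) s}
  have hN' : ((24 * (216 + 120 * A) : ℤ) : ℂ) = (((C * N : ℕ) : ℤ) : ℂ) := by
    push_cast at hN hc56 ⊢
    linear_combination hN - (720 : ℂ) * hc56
  have h0 : (0 : ℤ) ≤ 24 * (216 + 120 * A) := by
    have : 24 * (216 + 120 * A) = ((C * N : ℕ) : ℤ) := by exact_mod_cast hN'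
    rw [this]; positivity
  have hd1 : degs 1 = 15 := by decide
  rw [hd1] at hn3
  unfold Int.ModEq at hn3
  omega

-- Three elements of orders 2, 3, 7 generating a proper subgroup.
include T in
theorem exists_triple : ∃ x y : G, orderOf x = 2 ∧ orderOf y = 3 ∧ orderOf (x * y) = 7 ∧
    closure ({x, y} : Set G) ≠ ⊤ := by
  classical
  haveI : Fact (Nat.Prime 2) := ⟨Nat.prime_two⟩
  obtain ⟨t, ht⟩ := exists_prime_orderOf_dvd_card' (G := G) 2 (by rw [h]; norm_num)
  obtain ⟨s, hs, hs2⟩ := T.exists_three h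
  obtain ⟨A, hA0, hA, h3, h4, hS, h7, h8⟩ := T.value_three h ht hs hs2
  have hN := CfsgLib.M11Order.sum_triple t s T.u
  rw [h, T.sum_eq, sum_nine] at hN
  simp only [T.value_two h ht, T.map_one_eq] at hN
  rw [T.out 5 (by decide) T.u T.hu, T.out 6 (by decide) T.u T.hu, T.out 7 (by decide) T.u T.hu,
    T.out 8 (by decide) T.u T.hu, T.one_apply, T.one_apply, hA, hs2, h3, h4, T.val₁, T.val₂] at hN
  simp only [map_one, map_zero, degs, tv, Matrix.cons_val_zero, Matrix.cons_val_one, Matrix.cons_val] at hN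
  have hc34 : conj ((T.χ 3 : G → ℂ) T.u) + conj ((T.χ 4 : G → ℂ) T.u) = -1 := by
    rw [← map_add, T.val₃, map_neg, map_one]
  set N := Nat.card {a : G // IsConj (t * (a * s * a⁻¹)) T.u}
  have hN0 : N ≠ 0 := by
    intro e
    rw [e, Nat.cast_zero, mul_zero] at hN
    have h1 : ((84 * (36 + 4 * A) : ℤ) : ℂ) = ((0 : ℤ) : ℂ) := by
      push_cast at hN ⊢
      linear_combination hN + (504 * (1 + A) : ℂ) * hc34
    have h2 : 84 * (36 + 4 * A) = (0 : ℤ) := by exact_mod_cast h1
    omega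
  obtain ⟨⟨a, ha⟩⟩ := (Nat.card_ne_zero.mp hN0).1
  set y := a * s * a⁻¹ with hy
  have hyord : orderOf y = 3 := by
    rw [hy, show a * s * a⁻¹ = (MulAut.conj a).toMonoidHom s from rfl, orderOf_injective _ (MulAut.conj a).injective, hs]
  have hxy : orderOf (t * y) = 7 := by
    obtain ⟨d, hd⟩ := isConj_iff.mp ha
    rw [← T.hu, ← hd]
    exact (orderOf_injective (MulAut.conj d).toMonoidHom (MulAut.conj d).injective _).symm
  refine ⟨t, y, ht, hyord, hxy, fun hgen => ?_⟩
  have hyA : ∀ i, (T.χ i : G → ℂ) y = (T.χ i : G → ℂ) s := fun i => isClassFunction_coe (T.χ i) _ _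
  -- the fixed spaces
  have hmain : ∀ i : Fin 9, (i = 5 ∨ i = 6) → ∃ f : ℕ,
      (3 : ℂ) * f = 14 + (T.χ i : G → ℂ) s + conj ((T.χ i : G → ℂ) s) ∧ f ≤ 4 := by
    intro i hi
    obtain ⟨n, ρ, hρi, hρ⟩ := (T.χ i).2
    have hi' : 5 ≤ (i : ℕ) := by rcases hi with rfl | rfl <;> decide
    have hd : degs i = 14 := by rcases hi with rfl | rfl <;> decide
    have hn : n = 14 := by
      have := T.map_one_eq i
      rw [← hρ, Representation.char_one, Module.finrank_fin_fun, hd] at this
      exact_mod_cast this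
    have h0 : ∑ g : G, ρ.character g = 0 := by
      have hne : T.χ i ≠ oneChar G := T.ne_one (by rcases hi with rfl | rfl <;> decide)
      have := classInner_of_ne hne
      rw [classInner_eq_sum_map_inv _ (isCharacter_coe (oneChar G))] at this
      simp only [oneChar_apply, mul_one, mul_eq_zero, inv_eq_zero] at this
      rw [hρ]
      exact this.resolve_left natCard_ne_zero
    have hle := finrank_ker_add_le ρ h0 hgen
    have f1 := finrank_ker_eq ρ t
    have f2 := finrank_ker_eq ρ y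
    have f3 := finrank_ker_eq ρ (t * y)
    simp only [hρ] at f1 f2 f3
    rw [ht, Finset.sum_range_succ, Finset.sum_range_one, pow_zero, pow_one, T.map_one_eq, T.value_two h ht, hd] at f1
    have hy2 : y ^ 2 = y⁻¹ := eq_inv_of_mul_eq_one_left (by rw [← pow_succ]; exact orderOf_dvd_iff_pow_eq_one.mp (by rw [hyord]))
    rw [hyord, Finset.sum_range_succ, Finset.sum_range_succ, Finset.sum_range_one, pow_zero, pow_one, hy2,
      map_inv_eq_conj (isCharacter_coe _), T.map_one_eq, hd, hyA] at f2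
    rw [hxy, Finset.sum_range_succ', pow_zero, T.map_one_eq, hd, Finset.sum_eq_zero (fun j hj => by
      refine T.out i hi' _ ?_
      rw [Nat.Coprime.orderOf_pow, hxy]
      rw [hxy]
      refine ((Nat.Prime.coprime_iff_not_dvd (by norm_num : Nat.Prime 7)).mpr fun hd7 => ?_)
      have := Nat.le_of_dvd (by omega) hd7
      have := Finset.mem_range.mp hj
      omega)] at f3
    have htv : tv i = 2 := by rcases hi with rfl | rfl <;> decide
    rw [htv] at f1
    push_cast at f1 f3
    have k1 : Module.finrank ℂ (LinearMap.ker (ρ t - 1)) = 8 := by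
      have : (Module.finrank ℂ (LinearMap.ker (ρ t - 1)) : ℂ) = 8 := by linear_combination f1 / 2
      exact_mod_cast this
    have k3 : Module.finrank ℂ (LinearMap.ker (ρ (t * y) - 1)) = 2 := by
      have : (Module.finrank ℂ (LinearMap.ker (ρ (t * y) - 1)) : ℂ) = 2 := by linear_combination f3 / 7
      exact_mod_cast this
    refine ⟨_, by push_cast at f2; exact f2, ?_⟩
    omega
  obtain ⟨f, hf, hf4⟩ := hmain 5 (.inl rfl)
  obtain ⟨f', hf', hf4'⟩ := hmain 6 (.inr rfl)
  have hsum : ((3 * ((f : ℤ) + f') : ℤ) : ℂ) = ((30 + 2 * A : ℤ) : ℂ) := by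
    have hc56 : conj ((T.χ 5 : G → ℂ) s) + conj ((T.χ 6 : G → ℂ) s) = ((1 + A : ℤ) : ℂ) := by
      rw [← map_add, hS, map_intCast]
    push_cast at hS hc56 ⊢
    linear_combination hf + hf' + hS + hc56
  have : 3 * ((f : ℤ) + f') = 30 + 2 * A := by exact_mod_cast hsum
  omega

end Table

set_option maxHeartbeats 800000 in
/-- There is a subgroup of index 15 containing the normalizer of a Sylow 7-subgroup. -/
theorem exists_index_fifteen : ∃ L : Subgroup G, L.index = 15 ∧ ∃ v ∈ L, orderOf v = 7 ∧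
    normalizer ((zpowers v : Subgroup G) : Set G) ≤ L := by
  classical
  haveI h7 : Fact (Nat.Prime 7) := ⟨by norm_num⟩
  have hc := not_comm_2520 h
  obtain ⟨T⟩ := exists_table h
  obtain ⟨x, y, hx, hy, hv, hne⟩ := T.exists_triple h
  set L := closure ({x, y} : Set G) with hL
  have hxL : x ∈ L := subset_closure (by simp)
  have hyL : y ∈ L := subset_closure (by simp)
  have hvL : x * y ∈ L := mul_mem hxL hyL
  have d2 := Subgroup.orderOf_dvd_natCard _ hxL
  have d3 := Subgroup.orderOf_dvd_natCard _ hyL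
  have d7 := Subgroup.orderOf_dvd_natCard _ hvL
  rw [hx] at d2; rw [hy] at d3; rw [hv] at d7
  have hmul := L.card_mul_index
  rw [h] at hmul
  have h7i : 7 ≤ L.index := by
    have h2 := two_mul_card_dvd_factorial_index hc hne
    rw [h] at h2
    by_contra hlt
    have key : ∀ i ∈ Finset.range 7, ¬ 2 * 2520 ∣ i.factorial := by decide +kernel
    exact key _ (Finset.mem_range.mpr (not_le.mp hlt)) h2
  obtain ⟨R, hR⟩ := exists_zpowers_eq_sylow (seven_local h) hv
  have hRL : (R : Subgroup G) ≤ L := by rw [hR]; exact zpowers_le.mpr hvL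
  have hN21 : Nat.card (normalizer ((R : Subgroup G) : Set G)) = 21 := by
    have hN := card_normalizer_mul R
    rw [(seven_local h).1, h] at hN
    omega
  set S := R.subtype hRL with hS
  have hNS : normalizer ((S : Subgroup L) : Set L) = (normalizer ((R : Subgroup G) : Set G)).subgroupOf L :=
    (subgroupOf_normalizer_eq hRL).symm
  set n := Nat.card (Sylow 7 L) with hn
  set m := Nat.card (normalizer ((S : Subgroup L) : Set L)) with hm
  have hnm : m * n = Nat.card L := card_normalizer_mul S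
  have hmod : n % 7 = 1 := card_sylow_mod
  have hm21 : m ∣ 21 := by
    rw [hm, hNS, ← hN21, ← inf_subgroupOf_right,
      Nat.card_congr (Subgroup.subgroupOfEquivOfLe inf_le_right).toEquiv]
    exact card_dvd_of_le inf_le_left
  have hm7 : 7 ∣ m := by
    have hle : (S : Subgroup L) ≤ normalizer ((S : Subgroup L) : Set L) := le_normalizer
    refine dvd_trans ?_ (card_dvd_of_le hle)
    rw [hS, Sylow.coe_subtype, Nat.card_congr (Subgroup.subgroupOfEquivOfLe hRL).toEquiv, ((seven_local h).2 R).1]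
  have hm_cases : m = 7 ∨ m = 21 := by
    have key : ∀ d ∈ Nat.divisors 21, 7 ∣ d → d = 7 ∨ d = 21 := by decide
    exact key m (Nat.mem_divisors.mpr ⟨hm21, by norm_num⟩) hm7
  rcases hm_cases with e | e
  · -- a normal 7-complement
    exfalso
    have hSc : Nat.card (S : Subgroup L) = 7 := by
      rw [hS, Sylow.coe_subtype, Nat.card_congr (Subgroup.subgroupOfEquivOfLe hRL).toEquiv, ((seven_local h).2 R).1]
    have heq : normalizer ((S : Subgroup L) : Set L) = (S : Subgroup L) :=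
      (eq_of_le_of_card_ge le_normalizer (by rw [hSc, ← hm, e])).symm
    have hcyc : IsCyclic (S : Subgroup L) := isCyclic_of_prime_card hSc
    have hP : normalizer ((S : Subgroup L) : Set L) ≤ centralizer ((S : Subgroup L) : Set L) := by
      rw [heq]
      intro a ha
      rw [mem_centralizer_iff]
      intro b hb
      exact congrArg Subtype.val (hcyc.commGroup.mul_comm ⟨b, hb⟩ ⟨a, ha⟩)
    obtain ⟨φ, hφ⟩ : ∃ φ : L →* (S : Subgroup L), ¬ 7 ∣ Nat.card φ.ker :=
      ⟨MonoidHom.transferSylow S hP, MonoidHom.not_dvd_card_ker_transferSylow S hP⟩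
    have hker : ∀ (w : G) (hw : w ∈ L), ¬ 7 ∣ orderOf w → (⟨w, hw⟩ : L) ∈ φ.ker := by
      intro w hw hw7
      rw [MonoidHom.mem_ker]
      have h1 : orderOf (φ ⟨w, hw⟩) ∣ orderOf w := by
        exact (orderOf_map_dvd φ (⟨w, hw⟩ : L)).trans (dvd_of_eq (Subgroup.orderOf_coe (⟨w, hw⟩ : L)).symm)
      have h2 : orderOf (φ ⟨w, hw⟩) ∣ 7 := by
        exact (orderOf_dvd_natCard (φ ⟨w, hw⟩)).trans (dvd_of_eq hSc)
      rcases (Nat.dvd_prime (by norm_num)).mp h2 with e1 | e1
      · exact orderOf_eq_one_iff.mp e1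
      · exact absurd (e1 ▸ h1) hw7
    have hvk : (⟨x * y, hvL⟩ : L) ∈ φ.ker := by
      rw [show (⟨x * y, hvL⟩ : L) = ⟨x, hxL⟩ * ⟨y, hyL⟩ from rfl]
      exact φ.ker.mul_mem (hker x hxL (by rw [hx]; norm_num)) (hker y hyL (by rw [hy]; norm_num))
    have h3 : orderOf (⟨x * y, hvL⟩ : L) = 7 := by rw [← Subgroup.orderOf_coe]; exact hv
    have h4 := Subgroup.orderOf_dvd_natCard _ hvk
    rw [h3] at h4
    exact hφ h4
  · have hNL : normalizer ((R : Subgroup G) : Set G) ≤ L := by
      have h1 : Nat.card ((normalizer ((R : Subgroup G) : Set G)).subgroupOf L) = 21 := by rw [← hNS, ← hm, e]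
      rw [← inf_subgroupOf_right, Nat.card_congr (Subgroup.subgroupOfEquivOfLe inf_le_right).toEquiv] at h1
      exact inf_eq_left.mp (eq_of_le_of_card_ge inf_le_left (by rw [h1, hN21]))
    refine ⟨L, ?_, x * y, hvL, hv, by rw [← hR]; exact hNL⟩
    rw [e] at hnm
    have hd : n ∣ 120 := ⟨L.index, by rw [← hnm] at hmul; nlinarith⟩
    have key : ∀ k ∈ Nat.divisors 120, k % 7 = 1 → (2 ∣ 21 * k) → 7 ≤ 120 / k → k = 8 := by decide +kernel
    have hi : L.index = 120 / n := by
      have : 21 * n * L.index = 21 * 120 := by rw [hnm, hmul]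
      rw [mul_assoc] at this
      have h' : n * L.index = 120 := by omega
      rw [← h', Nat.mul_div_cancel_left _ (Nat.card_pos)]
    have := key n (Nat.mem_divisors.mpr ⟨hd, by norm_num⟩) hmod (hnm ▸ d2) (hi ▸ h7i)
    rw [hi, this]

end CfsgLib.A7Order
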