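import Cfsg.Agent.Sieve.PrimeLocal
import Mathlib

/-!
# The Sylow 7-subgroups of a simple group of order 2520
-/

set_option autoImplicit false
set_option linter.style.haveILetI false

namespace CfsgLib.A7Order

open CfsgLib.SylowToolkit CfsgLib.Sieve.PrimeLocal Subgroup MulAction

/-- The sign of a permutation of square one. -/
theorem sign_of_sq_eq_one {α : Type*} [Fintype α] [DecidableEq α] {σ : Equiv.Perm α} (h : σ ^ 2 = 1) :
    Equiv.Perm.sign σ = (-1) ^ (σ.support.card / 2) := by
  have hall : σ.cycleType = Multiset.replicate σ.cycleType.card 2 := by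
    refine Multiset.eq_replicate.mpr ⟨rfl, fun b hb => ?_⟩
    have h1 := (Equiv.Perm.dvd_of_mem_cycleType hb).trans (orderOf_dvd_of_pow_eq_one h)
    have h2 := Equiv.Perm.two_le_of_mem_cycleType hb
    have := Nat.le_of_dvd (by norm_num) h1
    omega
  have hsum := σ.sum_cycleType
  rw [hall, Multiset.sum_replicate, smul_eq_mul] at hsum
  rw [Equiv.Perm.sign_of_cycleType, hall, Multiset.sum_replicate, Multiset.card_replicate, smul_eq_mul, ← hsum,
    Nat.mul_div_cancel _ (by norm_num), pow_add, pow_mul, show ((-1 : ℤˣ) ^ σ.cycleType.card) ^ 2 = 1 from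
      Int.units_sq _, one_mul]

variable {G : Type*} [Group G] [Finite G] [IsSimpleGroup G] (h : Nat.card G = 2520)

include h

omit [Finite G] in
theorem not_comm_2520 : ¬ IsMulCommutative G := not_isMulCommutative_of_not_prime (by rw [h]; norm_num)

/-- Two points: an involution acts on the Sylow 7-subgroups evenly and non-trivially. -/
theorem card_moved {g : G} (hg : orderOf g = 2) :
    Nat.card {R : Sylow 7 G // g • R ≠ R} ≠ 0 ∧ 2 ∣ Nat.card {R : Sylow 7 G // g • R ≠ R} ∧
      2 ∣ Nat.card {R : Sylow 7 G // g • R ≠ R} / 2 := by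
  classical
  haveI : Fact (Nat.Prime 7) := ⟨by norm_num⟩
  have hc := not_comm_2520 h
  haveI := Fintype.ofFinite (Sylow 7 G)
  set φ := toPermHom G (Sylow 7 G) with hφ
  set σ := φ g with hσ
  have hcard : Nat.card {R : Sylow 7 G // g • R ≠ R} = σ.support.card := by
    rw [Nat.card_eq_fintype_card, Fintype.card_subtype]
    congr 1
  have hsq : σ ^ 2 = 1 := by rw [hσ, ← map_pow, ← hg, pow_orderOf_eq_one, map_one]
  rw [hcard]
  have h0 : σ.support.card ≠ 0 := by
    rw [Ne, Finset.card_eq_zero, Equiv.Perm.support_eq_empty_iff, hσ, ← map_one φ]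
    intro e
    rw [toPermHom_sylow_injective hc (by rw [h]; norm_num) e, orderOf_one] at hg
    norm_num at hg
  have h2 : 2 ∣ σ.support.card := by
    rw [← σ.sum_cycleType]
    refine Multiset.dvd_sum fun b hb => ?_
    have h1 := (Equiv.Perm.dvd_of_mem_cycleType hb).trans (orderOf_dvd_of_pow_eq_one hsq)
    have h2 := Equiv.Perm.two_le_of_mem_cycleType hb
    have := Nat.le_of_dvd (by norm_num) h1
    rw [show b = 2 by omega]
  refine ⟨h0, h2, ?_⟩
  have hs := sign_eq_one hc φ g
  rw [← hσ, sign_of_sq_eq_one hsq] at hs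
  by_contra hodd
  rw [Nat.odd_iff.mpr (by omega) |>.neg_one_pow] at hs
  exact absurd hs (by decide)

omit [IsSimpleGroup G] h in
/-- The Sylow 7-subgroup acts without fixed points on the other ones. -/
theorem sylow_fixed_unique {P R : Sylow 7 G} (hP : Nat.card (P : Subgroup G) = 7) {x : G}
    (hxP : x ∈ (P : Subgroup G)) (hx : x ≠ 1) (hR : x • R = R) : R = P := by
  haveI : Fact (Nat.Prime 7) := ⟨by norm_num⟩
  rw [Sylow.smul_eq_iff_mem_normalizer] at hR
  have hxR : x ∈ (R : Subgroup G) := by
    have hp : IsPGroup 7 (zpowers x) := P.2.to_le (zpowers_le.mpr hxP)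
    have := hp.inf_normalizer_sylow R
    exact (this.le ⟨mem_zpowers x, hR⟩).2
  have hord : orderOf x = 7 := by
    have := (Subgroup.orderOf_dvd_natCard (s := (P : Subgroup G)) hxP)
    rw [hP, Nat.dvd_prime (by norm_num)] at this
    exact this.resolve_left fun e => hx (orderOf_eq_one_iff.mp e)
  refine Sylow.ext ?_
  rw [← eq_of_le_of_card_ge (zpowers_le.mpr hxP) (by rw [hP, Nat.card_zpowers, hord]),
    ← eq_of_le_of_card_ge (zpowers_le.mpr hxR) (by
      rw [card_sylow_subgroup_congr R P, hP, Nat.card_zpowers, hord])]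

theorem seven_local : HasLocal G 7 120 1 := by
  classical
  haveI h7 : Fact (Nat.Prime 7) := ⟨by norm_num⟩
  haveI h5 : Fact (Nat.Prime 5) := ⟨by norm_num⟩
  have hc := not_comm_2520 h
  obtain ⟨o7, ho7, L7⟩ := exists_option hc (by rw [h]; norm_num) 7 360 (by rw [h]) (by norm_num)
  obtain ⟨o5, ho5, L5⟩ := exists_option hc (by rw [h]; norm_num) 5 504 (by rw [h]) (by norm_num)
  have k7 : ∀ o ∈ options 7 360, (o.1 = 8 ∧ o.2.2 = 15) ∨ (o.1 = 15 ∧ 2 ∣ o.2.2) ∨ (o.1 = 36 ∧ o.2.2 = 5) ∨
      (o.1 = 120 ∧ o.2.2 = 1) := by decide +kernel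
  have k5 : ∀ o ∈ options 5 504, 7 ∣ o.2.2 → o.1 = 36 ∧ o.2.2 = 7 := by decide +kernel
  rcases k7 o7 ho7 with ⟨e, e'⟩ | ⟨e, e'⟩ | ⟨e, e'⟩ | ⟨e, e'⟩ <;> rw [e] at L7
  · exfalso
    rw [e'] at L7
    have h35 := dvd_of_dvd L7 L5 (by norm_num) (by norm_num)
    obtain ⟨f, f'⟩ := k5 o5 ho5 h35
    rw [f, f'] at L5
    exact absurd (card_sylow_dvd_of_normalized L7 L5 (by norm_num) (by norm_num) (by norm_num) (by decide)).1
      (by norm_num)
  · exfalso
    obtain ⟨P⟩ := (inferInstance : Nonempty (Sylow 7 G))
    obtain ⟨hP, hC⟩ := L7.2 P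
    haveI : Fact (Nat.Prime 2) := ⟨Nat.prime_two⟩
    obtain ⟨⟨k, hkC⟩, hk⟩ := exists_prime_orderOf_dvd_card' (G := centralizer ((P : Subgroup G) : Set G)) 2
      (by rw [hC]; exact e'.trans (dvd_mul_left _ _))
    rw [orderOf_mk] at hk
    obtain ⟨m0, m2, m4⟩ := card_moved h hk
    have hkP : k • P = P := Sylow.smul_eq_iff_mem_normalizer.mpr (centralizer_le_normalizer _ hkC)
    let M : SubMulAction (P : Subgroup G) (Sylow 7 G) :=
      { carrier := {R | k • R ≠ R}
        smul_mem' := fun x R hR hx => hR (by
          have hx' : k • ((x : G) • R) = (x : G) • R := hx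
          rw [smul_smul, ← mem_centralizer_iff.mp hkC (x : G) x.2, ← smul_smul, smul_left_cancel_iff] at hx'
          exact hx') }
    have h7 := (P.2).card_modEq_card_fixedPoints M
    have hfix : IsEmpty (fixedPoints (P : Subgroup G) M) := by
      refine ⟨fun R => ?_⟩
      obtain ⟨⟨x, hxP⟩, hx⟩ := exists_prime_orderOf_dvd_card' (G := (P : Subgroup G)) 7 (by rw [hP])
      rw [orderOf_mk] at hx
      have := sylow_fixed_unique hP hxP (fun e => by rw [e, orderOf_one] at hx; norm_num at hx)
        (congrArg Subtype.val (R.2 ⟨x, hxP⟩))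
      exact R.1.2 (by rw [this]; exact hkP)
    rw [Nat.card_eq_zero.mpr (.inl hfix)] at h7
    have hMc : Nat.card M = Nat.card {R : Sylow 7 G // k • R ≠ R} := rfl
    rw [hMc] at h7
    have hlt : Nat.card {R : Sylow 7 G // k • R ≠ R} < 15 := by
      haveI := Fintype.ofFinite (Sylow 7 G)
      rw [← L7.1, Nat.card_eq_fintype_card, Nat.card_eq_fintype_card]
      exact Fintype.card_subtype_lt (p := fun R => k • R ≠ R) (x := P) (fun hne => hne hkP)
    unfold Nat.ModEq at h7
    omega
  · exfalso
    rw [e'] at L7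
    have h35 := dvd_of_dvd L7 L5 (by norm_num) (by norm_num)
    obtain ⟨f, f'⟩ := k5 o5 ho5 h35
    rw [f, f'] at L5
    obtain ⟨P⟩ := (inferInstance : Nonempty (Sylow 7 G))
    obtain ⟨hP, hC⟩ := L7.2 P
    have hN := card_normalizer_mul P
    rw [L7.1, h] at hN
    haveI : Fact (Nat.Prime 2) := ⟨Nat.prime_two⟩
    obtain ⟨⟨g, hgN⟩, hg⟩ := exists_prime_orderOf_dvd_card' (G := normalizer ((P : Subgroup G) : Set G)) 2 (by omega)
    rw [orderOf_mk] at hg
    obtain ⟨m0, m2, m4⟩ := card_moved h hg
    set A := centralizer ((P : Subgroup G) : Set G) with hA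
    have hgP : g • P = P := Sylow.smul_eq_iff_mem_normalizer.mpr hgN
    have hA35 : Nat.card A = 35 := hC
    have hPA : (P : Subgroup G) ≤ A := fun x hx => by
      have hcyc : IsCyclic (P : Subgroup G) := isCyclic_of_prime_card hP
      rw [hA, mem_centralizer_iff]
      intro y hy
      exact congrArg Subtype.val (hcyc.commGroup.mul_comm ⟨y, hy⟩ ⟨x, hx⟩)
    -- elements of `A` fix only `P`
    have hfree : ∀ a ∈ A, a ≠ 1 → ∀ R : Sylow 7 G, a • R = R → R = P := by
      intro a ha ha1 R hR
      have hd : orderOf a ∣ 35 := hA35 ▸ Subgroup.orderOf_dvd_natCard _ ha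
      have hcases : 7 ∣ orderOf a ∨ orderOf a = 5 := by
        have h1 : orderOf a ≠ 1 := fun e => ha1 (orderOf_eq_one_iff.mp e)
        have key : ∀ i ∈ Nat.divisors 35, i = 1 ∨ 7 ∣ i ∨ i = 5 := by decide
        exact (key _ (Nat.mem_divisors.mpr ⟨hd, by norm_num⟩)).resolve_left h1
      rcases hcases with h7 | h5'
      · set b := a ^ (orderOf a / 7) with hb
        have hb7 : orderOf b = 7 := orderOf_pow_orderOf_div (orderOf_pos a).ne' h7
        have hbP : b ∈ (P : Subgroup G) := by
          have hp : IsPGroup 7 (zpowers b) := IsPGroup.of_card (n := 1) (by rw [Nat.card_zpowers, hb7, pow_one])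
          exact ((hp.inf_normalizer_sylow P).le ⟨mem_zpowers b, centralizer_le_normalizer _ (pow_mem ha _)⟩).2
        refine sylow_fixed_unique hP hbP (fun e => by rw [e, orderOf_one] at hb7; norm_num at hb7) ?_
        have hstab : a ∈ MulAction.stabilizer G R := hR
        exact pow_mem hstab _
      · have haN : a ∈ normalizer ((R : Subgroup G) : Set G) := Sylow.smul_eq_iff_mem_normalizer.mp hR
        have hrel := CfsgLib.PrimeGram.relIndex_mul_centralizer (R : Subgroup G)
        have hNR := card_normalizer_mul R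
        rw [L7.1, h] at hNR
        rw [(L7.2 R).2] at hrel
        have haC : a ∈ centralizer ((R : Subgroup G) : Set G) := by
          have h2 : ((centralizer ((R : Subgroup G) : Set G)).subgroupOf
              (normalizer ((R : Subgroup G) : Set G))).index = 2 := by
            show (centralizer ((R : Subgroup G) : Set G)).relIndex _ = 2
            omega
          have hsq := Subgroup.sq_mem_of_index_two h2 (⟨a, haN⟩ : normalizer ((R : Subgroup G) : Set G))
          rw [mem_subgroupOf] at hsq
          have h6 := pow_mem hsq 3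
          have e6 : ((⟨a, haN⟩ : normalizer ((R : Subgroup G) : Set G)) ^ 2 : G) ^ 3 = a := by
            rw [← pow_mul, ← pow_mod_orderOf, h5']
            simp
          simp only [SubmonoidClass.coe_pow] at h6
          rwa [e6] at h6
        obtain ⟨Q, hQ⟩ := exists_zpowers_eq_sylow L5 h5'
        set B := centralizer ((Q : Subgroup G) : Set G) with hB
        have hle : ∀ S : Sylow 7 G, a ∈ centralizer ((S : Subgroup G) : Set G) → (S : Subgroup G) ≤ B := by
          intro S hS x hx
          rw [hB, hQ, mem_centralizer_iff]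
          intro y hy
          obtain ⟨i, rfl⟩ := mem_zpowers_iff.mp hy
          exact ((show Commute x a from mem_centralizer_iff.mp hS x hx).zpow_right i).eq.symm
        have hB35 : Nat.card B = 5 * 7 := (L5.2 Q).2
        have hone : Nat.card (Sylow 7 B) = 1 := by
          have h1 : Nat.card (Sylow 7 B) ∣ 5 := card_sylow_dvd (k := 1) (m := 5) (by rw [hB35]; norm_num) (by norm_num)
          have h2 := card_sylow_mod (G := B) (p := 7)
          rcases (Nat.dvd_prime (by norm_num)).mp h1 with e | e
          · exact e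
          · rw [e] at h2; norm_num at h2
        haveI hsub : Subsingleton (Sylow 7 B) := (Nat.card_eq_one_iff_unique.mp hone).1
        exact Sylow.subtype_injective (Subsingleton.elim (R.subtype (hle R haC)) (P.subtype (hle P ha)))
    -- at most one further fixed point
    have hgA : ∀ a ∈ A, g * a * g⁻¹ = a → a = 1 := by
      intro a ha hcomm
      by_contra ha1
      have hd : orderOf a ∣ 35 := hA35 ▸ Subgroup.orderOf_dvd_natCard _ ha
      have hga : Commute g a := mul_inv_eq_iff_eq_mul.mp hcomm
      obtain ⟨q, hq, hqd⟩ := Nat.exists_prime_and_dvd (show orderOf a ≠ 1 from fun e => ha1 (orderOf_eq_one_iff.mp e))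
      set b := a ^ (orderOf a / q) with hb
      have hbq : orderOf b = q := orderOf_pow_orderOf_div (orderOf_pos a).ne' hqd
      have hgb : Commute g b := hga.pow_right _
      have hq35 : q = 5 ∨ q = 7 := by
        have key : ∀ i ∈ Nat.divisors 35, i.Prime → i = 5 ∨ i = 7 := by decide
        exact key q (Nat.mem_divisors.mpr ⟨hqd.trans hd, by norm_num⟩) hq
      have hno : ∀ (r n c : ℕ) [Fact r.Prime], HasLocal G r n c → orderOf b = r → Odd (r * c) → False := by
        intro r n c _ L hbr hodd
        obtain ⟨R, hR⟩ := exists_zpowers_eq_sylow L hbr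
        have hgC : g ∈ centralizer ((R : Subgroup G) : Set G) := by
          rw [hR, mem_centralizer_iff]
          intro y hy
          obtain ⟨i, rfl⟩ := mem_zpowers_iff.mp hy
          exact (hgb.zpow_right i).eq.symm
        have := Subgroup.orderOf_dvd_natCard _ hgC
        rw [(L.2 R).2, hg] at this
        exact absurd this (Nat.not_even_iff_odd.mpr hodd ∘ even_iff_two_dvd.mpr)
      rcases hq35 with rfl | rfl
      · exact hno 5 _ _ L5 hbq (by decide)
      · exact hno 7 _ _ L7 hbq (by decide)
    have hcard : Nat.card (Sylow 7 G) = 36 := L7.1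
    haveI := Fintype.ofFinite (Sylow 7 G)
    have hfix : Nat.card {R : Sylow 7 G // g • R = R} ≤ 2 := by
      by_contra hgt
      obtain ⟨R, hR, hRP⟩ : ∃ R : Sylow 7 G, g • R = R ∧ R ≠ P := by
        by_contra hno
        push Not at hno
        haveI : Subsingleton {R : Sylow 7 G // g • R = R} :=
          ⟨fun a b => Subtype.ext ((hno a.1 a.2).trans (hno b.1 b.2).symm)⟩
        have := Finite.card_le_one_iff_subsingleton.mpr ‹Subsingleton {R : Sylow 7 G // g • R = R}›
        omega
      have hinj : Function.Injective (fun a : A => (a : G) • R) := by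
        intro a b e
        have e' : ((b : G)⁻¹ * a) • R = R := by
          have e0 : (a : G) • R = (b : G) • R := e
          rw [mul_smul, e0, inv_smul_smul]
        by_contra hne
        exact hRP (hfree _ (mul_mem (inv_mem b.2) a.2)
          (fun e1 => hne (Subtype.ext (inv_mul_eq_one.mp e1).symm)) R e')
      have hsurj : ∀ S : Sylow 7 G, S ≠ P → ∃ a : A, (a : G) • R = S := by
        let f : A → {S : Sylow 7 G // S ≠ P} := fun a => ⟨(a : G) • R, fun e => hRP (by
          have haP : (a : G)⁻¹ • P = P := Sylow.smul_eq_iff_mem_normalizer.mpr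
            (inv_mem (centralizer_le_normalizer _ a.2))
          rw [← inv_smul_smul (a : G) R, e, haP])⟩
        have hbij : Function.Bijective f := by
          refine (Nat.bijective_iff_injective_and_card f).mpr ⟨fun a b e => hinj (congrArg Subtype.val e), ?_⟩
          rw [hA35]
          have : Nat.card {S : Sylow 7 G // S ≠ P} + 1 = 36 := by
            rw [← hcard, Nat.card_eq_fintype_card, Nat.card_eq_fintype_card, Fintype.card_subtype_compl,
              Fintype.card_subtype_eq]
            have := Fintype.card_pos (α := Sylow 7 G)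
            omega
          omega
        intro S hS
        obtain ⟨a, ha⟩ := hbij.2 ⟨S, hS⟩
        exact ⟨a, congrArg Subtype.val ha⟩
      refine hgt ?_
      have hsub : ∀ S : Sylow 7 G, g • S = S → S = P ∨ S = R := by
        intro S hS
        by_cases hSP : S = P
        · exact .inl hSP
        obtain ⟨a, rfl⟩ := hsurj S hSP
        have hgaA : g * a * g⁻¹ ∈ A := by
          have := (inferInstance : ((centralizer ((P : Subgroup G) : Set G)).subgroupOf
            (normalizer ((P : Subgroup G) : Set G))).Normal).conj_mem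
              ⟨(a : G), centralizer_le_normalizer _ a.2⟩ (mem_subgroupOf.mpr a.2) ⟨g, hgN⟩
          exact mem_subgroupOf.mp this
        have e : (g * a * g⁻¹) • R = (a : G) • R := by
          conv_lhs => rw [← hR]
          rw [smul_smul, inv_mul_cancel_right, mul_smul, hS]
        have := hgA a a.2 (congrArg Subtype.val (hinj (a₁ := ⟨_, hgaA⟩) (a₂ := a) e))
        exact .inr (by rw [this, one_smul])
      have : Nat.card {S : Sylow 7 G // g • S = S} ≤ Nat.card {S : Sylow 7 G // S = P ∨ S = R} :=
        Nat.card_le_card_of_injective (fun S => ⟨S.1, hsub S.1 S.2⟩) fun a b e => Subtype.ext (congrArg Subtype.val e : _)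
      refine this.trans ?_
      rw [Nat.card_eq_fintype_card, Fintype.card_subtype]
      refine (Finset.card_le_card (t := {P, R}) fun S hS => ?_).trans Finset.card_le_two
      simpa using hS
    have hfix1 : 1 ≤ Nat.card {R : Sylow 7 G // g • R = R} := by
      haveI : Nonempty {R : Sylow 7 G // g • R = R} := ⟨⟨P, hgP⟩⟩
      exact Nat.card_pos
    have htot : Nat.card {R : Sylow 7 G // g • R = R} + Nat.card {R : Sylow 7 G // g • R ≠ R} = 36 := by
      rw [← Nat.card_sum, Nat.card_congr (Equiv.sumCompl fun R : Sylow 7 G => g • R = R), hcard]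
    omega
  · rw [e'] at L7; exact L7

end CfsgLib.A7Order
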