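import Cfsg.Agent.A7Order.Hurwitz
import Cfsg.Agent.A7Order.Codes
import Mathlib

/-!
# A simple group of order 2520 is the model on 15 points
-/

set_option autoImplicit false
set_option linter.style.haveILetI false

namespace CfsgLib.A7Order

open CfsgLib.SylowToolkit CfsgLib.Sieve.PrimeLocal Subgroup MulAction
open Equiv (Perm)

universe u

/-- The model. -/
def model : Subgroup (Perm (Fin 15)) := Subgroup.closure {permU, permR, permK}

variable {G : Type u} [Group G] [Fintype G] [IsSimpleGroup G] (h : Nat.card G = 2520)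

include h

theorem pow_eq_one_cases (g : G) : g ^ 5 = 1 ∨ g ^ 7 = 1 ∨ g ^ 72 = 1 := by
  haveI : Fact (Nat.Prime 7) := ⟨by norm_num⟩
  haveI : Fact (Nat.Prime 5) := ⟨by norm_num⟩
  have hd : orderOf g ∣ 2520 := h ▸ orderOf_dvd_natCard g
  have key : ∀ p : ℕ, p.Prime → (∀ x : G, orderOf x = p → Nat.card (centralizer ({x} : Set G)) = p) →
      p ∣ orderOf g → g ^ p = 1 := by
    intro p hp hC hpd
    have hx := orderOf_pow_orderOf_div (orderOf_pos g).ne' hpd
    have hmem : g ∈ centralizer ({g ^ (orderOf g / p)} : Set G) :=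
      mem_centralizer_singleton_iff.mpr (Commute.pow_right (Commute.refl g) _).eq
    have := Subgroup.orderOf_dvd_natCard _ hmem
    rw [hC _ hx] at this
    exact orderOf_dvd_iff_pow_eq_one.mp this
  by_cases h5 : 5 ∣ orderOf g
  · exact .inl (key 5 (by norm_num) (fun x => centralizer_five h) h5)
  by_cases h7 : 7 ∣ orderOf g
  · exact .inr (.inl (key 7 (by norm_num) (fun x => centralizer_seven h) h7))
  refine .inr (.inr (orderOf_dvd_iff_pow_eq_one.mp ?_))
  have k : ∀ d ∈ Nat.divisors 2520, ¬ 5 ∣ d → ¬ 7 ∣ d → d ∣ 72 := by decide +kernel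
  exact k _ (Nat.mem_divisors.mpr ⟨hd, by norm_num⟩) h5 h7

theorem closure_eq_top {L : Subgroup G} {v r k : G} (hv : orderOf v = 7) (hr : orderOf r = 3)
    (hrN : r ∈ normalizer ((zpowers v : Subgroup G) : Set G)) (hrL : r ∈ L) (hkL : k ∉ L) (P : Sylow 3 G)
    (hrP : r ∈ (P : Subgroup G)) (hkP : k ∈ (P : Subgroup G)) (hP : Nat.card (P : Subgroup G) = 9) :
    closure ({v, r, k} : Set G) = ⊤ := by
  classical
  haveI : Fact (Nat.Prime 7) := ⟨by norm_num⟩
  haveI : Fact (Nat.Prime 5) := ⟨by norm_num⟩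
  haveI : Fact (Nat.Prime 3) := ⟨Nat.prime_three⟩
  set H := closure ({v, r, k} : Set G)
  have hvH : v ∈ H := subset_closure (by simp)
  have hrH : r ∈ H := subset_closure (by simp)
  have hkH : k ∈ H := subset_closure (by simp)
  have d7 : 7 ∣ Nat.card H := hv ▸ Subgroup.orderOf_dvd_natCard _ hvH
  have d9 : 9 ∣ Nat.card H := by
    have hle : zpowers r < H ⊓ (P : Subgroup G) := by
      refine lt_of_le_of_ne (le_inf (zpowers_le.mpr hrH) (zpowers_le.mpr hrP)) fun e => hkL ?_
      have : k ∈ zpowers r := e ▸ ⟨hkH, hkP⟩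
      exact (zpowers_le.mpr hrL) this
    have hc1 := card_dvd_of_le (inf_le_right : H ⊓ (P : Subgroup G) ≤ _)
    rw [hP] at hc1
    have hc2 : 3 < Nat.card (H ⊓ (P : Subgroup G) : Subgroup G) := by
      have hcz : Nat.card (zpowers r) = 3 := by rw [Nat.card_zpowers, hr]
      by_contra hlt
      exact hle.ne (eq_of_le_of_card_ge hle.le (by omega))
    have key : ∀ d ∈ Nat.divisors 9, 3 < d → d = 9 := by decide
    have h9 := key _ (Nat.mem_divisors.mpr ⟨hc1, by norm_num⟩) hc2
    exact h9 ▸ card_dvd_of_le inf_le_left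
  have d63 : 63 ∣ Nat.card H := (show Nat.Coprime 7 9 by norm_num).mul_dvd_of_dvd_of_dvd d7 d9
  by_contra hne
  have hmul := H.card_mul_index
  rw [h] at hmul
  have h7i : 7 ≤ H.index := by
    have h2 := two_mul_card_dvd_factorial_index (not_comm_2520 h) hne
    rw [h] at h2
    by_contra hlt
    have key : ∀ i ∈ Finset.range 7, ¬ 2 * 2520 ∣ i.factorial := by decide +kernel
    exact key _ (Finset.mem_range.mpr (not_le.mp hlt)) h2
  -- the Sylow 7-subgroup in `H`
  obtain ⟨R, hR⟩ := exists_zpowers_eq_sylow (seven_local h) hv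
  have hRH : (R : Subgroup G) ≤ H := by rw [hR]; exact zpowers_le.mpr hvH
  have hN := card_normalizer_mul R
  rw [(seven_local h).1, h] at hN
  have hNH : normalizer ((R : Subgroup G) : Set G) ≤ H := by
    have h21 : Nat.card (normalizer ((R : Subgroup G) : Set G)) = 21 := by omega
    have hle : zpowers v ⊔ zpowers r ≤ normalizer ((R : Subgroup G) : Set G) ⊓ H := by
      refine sup_le (le_inf ?_ (zpowers_le.mpr hvH)) (le_inf ?_ (zpowers_le.mpr hrH))
      · rw [← hR]; exact le_normalizer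
      · rw [hR]; exact zpowers_le.mpr hrN
    have e3 : 3 ∣ Nat.card (normalizer ((R : Subgroup G) : Set G) ⊓ H : Subgroup G) := by
      have := Subgroup.orderOf_dvd_natCard _ (hle (mem_sup_right (mem_zpowers r)))
      rwa [hr] at this
    have e7 : 7 ∣ Nat.card (normalizer ((R : Subgroup G) : Set G) ⊓ H : Subgroup G) := by
      have := Subgroup.orderOf_dvd_natCard _ (hle (mem_sup_left (mem_zpowers v)))
      rwa [hv] at this
    have e21 := (show Nat.Coprime 3 7 by norm_num).mul_dvd_of_dvd_of_dvd e3 e7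
    exact inf_eq_left.mp (eq_of_le_of_card_ge inf_le_left (by
      rw [h21]; exact Nat.le_of_dvd Nat.card_pos e21))
  have hnm := card_normalizer_mul (R.subtype hRH)
  have hm : Nat.card (normalizer (((R.subtype hRH) : Subgroup H) : Set H)) = 21 := by
    rw [show normalizer (((R.subtype hRH) : Subgroup H) : Set H) = (normalizer ((R : Subgroup G) : Set G)).subgroupOf H
      from (subgroupOf_normalizer_eq hRH).symm, Nat.card_congr (Subgroup.subgroupOfEquivOfLe hNH).toEquiv]
    omega
  rw [hm] at hnm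
  set n := Nat.card (Sylow 7 H) with hn
  have hmod : n % 7 = 1 := card_sylow_mod
  have hn15 : n = 15 ∧ Nat.card H = 315 := by
    have hd : Nat.card H ∣ 2520 := h ▸ card_subgroup_dvd_card H
    have key : ∀ c ∈ Nat.divisors 2520, 63 ∣ c → c % 21 = 0 → c / 21 % 7 = 1 → 7 ≤ 2520 / c → c = 315 := by
      decide +kernel
    have hi : H.index = 2520 / Nat.card H := by rw [← hmul, Nat.mul_div_cancel_left _ Nat.card_pos]
    have := key _ (Nat.mem_divisors.mpr ⟨hd, by norm_num⟩) d63 (by omega) (by omega) (hi ▸ h7i)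
    omega
  -- the Sylow 5-subgroup in `H`
  obtain ⟨S⟩ := (inferInstance : Nonempty (Sylow 5 H))
  have hS : Nat.card (S : Subgroup H) = 5 := by
    simpa using card_sylow_subgroup_eq (k := 1) (m := 63) (by rw [hn15.2]; norm_num) (by norm_num) S
  have hnS := card_normalizer_mul S
  rw [hn15.2] at hnS
  set n5 := Nat.card (Sylow 5 H) with hn5
  have hd5 : n5 ∣ 63 := card_sylow_dvd (k := 1) (by rw [hn15.2]; norm_num) (by norm_num)
  have hmod5 : n5 % 5 = 1 := card_sylow_mod
  have key : ∀ c ∈ Nat.divisors 63, c % 5 = 1 → c = 1 ∨ c = 21 := by decide +kernel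
  have h3N : 3 ∣ Nat.card (normalizer ((S : Subgroup H) : Set H)) := by
    rcases key _ (Nat.mem_divisors.mpr ⟨hd5, by norm_num⟩) hmod5 with e | e <;> rw [e] at hnS <;> omega
  obtain ⟨⟨w, hwN⟩, hw⟩ := exists_prime_orderOf_dvd_card' (G := normalizer ((S : Subgroup H) : Set H)) 3 h3N
  rw [orderOf_mk] at hw
  obtain ⟨⟨z, hzS⟩, hz⟩ := exists_prime_orderOf_dvd_card' (G := (S : Subgroup H)) 5 (by rw [hS])
  rw [orderOf_mk] at hz
  have hz5 : orderOf (z : G) = 5 := by rw [Subgroup.orderOf_coe]; exact hz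
  have hw3 : orderOf (w : G) = 3 := by rw [Subgroup.orderOf_coe]; exact hw
  obtain ⟨Q, hQ⟩ := exists_zpowers_eq_sylow (five_local h) hz5
  have hSz : (S : Subgroup H) = zpowers z :=
    (eq_of_le_of_card_ge (zpowers_le.mpr hzS) (by rw [hS, Nat.card_zpowers, hz])).symm
  have hwQ : (w : G) ∈ normalizer ((Q : Subgroup G) : Set G) := by
    have hiff := mem_normalizer_iff.mp hwN
    rw [hQ, mem_normalizer_iff]
    intro x
    constructor
    · intro hx
      obtain ⟨i, rfl⟩ := mem_zpowers_iff.mp hx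
      obtain ⟨j, hj⟩ := mem_zpowers_iff.mp (hSz ▸ (hiff (z ^ i)).mp (hSz ▸ zpow_mem (mem_zpowers z) i) :
        w * z ^ i * w⁻¹ ∈ zpowers z)
      exact mem_zpowers_iff.mpr ⟨j, by simpa using congrArg Subtype.val hj⟩
    · intro hx
      obtain ⟨i, hi⟩ := mem_zpowers_iff.mp hx
      have hxH : x ∈ H := by
        have : x = (w : G)⁻¹ * (z : G) ^ i * w := by rw [hi]; group
        rw [this]
        exact mul_mem (mul_mem (inv_mem w.2) (zpow_mem z.2 i)) w.2
      have h1 : w * ⟨x, hxH⟩ * w⁻¹ ∈ (S : Subgroup H) := by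
        rw [hSz]
        exact mem_zpowers_iff.mpr ⟨i, Subtype.ext (by simpa using hi)⟩
      have h2 := (hiff _).mpr h1
      rw [hSz] at h2
      obtain ⟨j, hj⟩ := mem_zpowers_iff.mp h2
      exact mem_zpowers_iff.mpr ⟨j, by simpa using congrArg Subtype.val hj⟩
  have hNQ := card_normalizer_mul Q
  rw [(five_local h).1, h] at hNQ
  have := Subgroup.orderOf_dvd_natCard _ hwQ
  rw [hw3, show Nat.card (normalizer ((Q : Subgroup G) : Set G)) = 20 by omega] at this
  norm_num at this

theorem exists_embedding : ∃ (φ : G →* Perm (Fin 15)) (σ : Perm (Fin 15)), Function.Injective φ ∧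
    φ.range = Subgroup.closure {permU, permR, σ} ∧ σ * permR = permR * σ ∧ σ 0 = 1 ∧ σ 1 = 8 ∧ σ 8 = 0 ∧ σ ^ 9 = 1 := by
  classical
  haveI : Fact (Nat.Prime 7) := ⟨by norm_num⟩
  haveI : Fact (Nat.Prime 3) := ⟨Nat.prime_three⟩
  obtain ⟨L, hLi, v, hvL, hv, hNL⟩ := exists_index_fifteen h
  have hLne : L ≠ ⊤ := fun e => by rw [e, index_top] at hLi; norm_num at hLi
  haveI := Fintype.ofFinite (G ⧸ L)
  have hX : Fintype.card (G ⧸ L) = 15 := by rw [← hLi, Subgroup.index, Nat.card_eq_fintype_card]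
  set x₀ : G ⧸ L := QuotientGroup.mk 1 with hx₀
  have hstab : ∀ g : G, g • x₀ = x₀ ↔ g ∈ L := fun g => by
    rw [hx₀, Quotient.smul_mk, smul_eq_mul, mul_one, QuotientGroup.eq, mul_one, inv_mem_iff]
  obtain ⟨R, hR⟩ := exists_zpowers_eq_sylow (seven_local h) hv
  have hN := card_normalizer_mul R
  rw [(seven_local h).1, h] at hN
  -- the element of order three
  obtain ⟨r, hrN, hr, hrv⟩ : ∃ r ∈ normalizer ((zpowers v : Subgroup G) : Set G), orderOf r = 3 ∧
      r * v * r⁻¹ = v ^ 2 := by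
    obtain ⟨⟨r, hrN⟩, hr⟩ := exists_prime_orderOf_dvd_card' (G := normalizer ((R : Subgroup G) : Set G)) 3 (by omega)
    rw [orderOf_mk] at hr
    rw [hR] at hrN
    obtain ⟨i, hi⟩ := mem_zpowers_iff.mp ((mem_normalizer_iff.mp hrN v).mp (mem_zpowers v))
    obtain ⟨m, hm7, hm⟩ : ∃ m : ℕ, m < 7 ∧ r * v * r⁻¹ = v ^ m := by
      refine ⟨(i % ((7 : ℕ) : ℤ)).toNat, by omega, ?_⟩
      rw [← hi, ← zpow_mod_orderOf v i, hv, ← zpow_natCast, Int.toNat_of_nonneg (Int.emod_nonneg _ (by norm_num))]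
    have hcube : v ^ (m * m * m) = v := by
      have h1 : ∀ j : ℕ, r * v ^ j * r⁻¹ = v ^ (m * j) := fun j => by rw [← conj_pow, hm, pow_mul]
      have h2 : r * (r * (r * v * r⁻¹) * r⁻¹) * r⁻¹ = v ^ (m * (m * m)) := by rw [hm, h1, h1]
      rw [show r * (r * (r * v * r⁻¹) * r⁻¹) * r⁻¹ = r ^ 3 * v * (r ^ 3)⁻¹ by simp only [pow_succ, pow_zero]; group,
        ← hr, pow_orderOf_eq_one, one_mul, inv_one, mul_one] at h2
      rw [mul_assoc]; exact h2.symm
    have hne1 : m ≠ 1 := by
      rintro rfl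
      rw [pow_one, mul_inv_eq_iff_eq_mul] at hm
      have := Subgroup.orderOf_dvd_natCard _ (mem_centralizer_singleton_iff.mpr hm : r ∈ centralizer ({v} : Set G))
      rw [centralizer_seven h hv, hr] at this
      norm_num at this
    have hmod : m * m * m % 7 = 1 := by
      have := pow_inj_mod.mp (hcube.trans (pow_one v).symm)
      rw [hv] at this
      omega
    have key : ∀ m < 7, m * m * m % 7 = 1 → m = 1 ∨ m = 2 ∨ m = 4 := by decide
    rcases key m hm7 hmod with rfl | rfl | rfl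
    · exact absurd rfl hne1
    · exact ⟨r, hrN, hr, hm⟩
    · refine ⟨r ^ 2, pow_mem hrN 2, by rw [Nat.Coprime.orderOf_pow, hr]; rw [hr]; norm_num, ?_⟩
      rw [show r ^ 2 * v * (r ^ 2)⁻¹ = r * (r * v * r⁻¹) * r⁻¹ by simp only [pow_succ, pow_zero]; group, hm,
        ← conj_pow, hm, ← pow_mul, ← pow_mod_orderOf, hv]
  have hrL : r ∈ L := hNL hrN
  -- fixed points of `v`
  have hfixv : ∀ x : G ⧸ L, v • x = x → x = x₀ := by
    intro x hx
    induction x using QuotientGroup.induction_on with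
    | H g =>
      rw [Quotient.smul_mk, smul_eq_mul, QuotientGroup.eq] at hx
      rw [hx₀, QuotientGroup.eq]
      have hgv : g⁻¹ * v * g ∈ L := by
        have := inv_mem hx
        simpa [mul_assoc] using this
      have hRL : (R : Subgroup G) ≤ L := by rw [hR]; exact zpowers_le.mpr hvL
      have hw7 : orderOf (g⁻¹ * v * g) = 7 := by
        rw [show g⁻¹ * v * g = (MulAut.conj g⁻¹).toMonoidHom v by simp, orderOf_injective _ (MulAut.conj g⁻¹).injective, hv]
      obtain ⟨R', hR'⟩ := exists_zpowers_eq_sylow (seven_local h) hw7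
      have hR'L : (R' : Subgroup G) ≤ L := by rw [hR']; exact zpowers_le.mpr hgv
      obtain ⟨l, hl⟩ := exists_smul_eq L (R.subtype hRL) (R'.subtype hR'L)
      rw [Sylow.smul_subtype] at hl
      have hl' : (l : G) • R = R' := Sylow.subtype_injective hl
      have hgR : g • R' = R := by
        refine Sylow.ext ?_
        rw [Sylow.coe_subgroup_smul, hR', hR]
        show (zpowers (g⁻¹ * v * g)).map (MulAut.conj g).toMonoidHom = zpowers v
        rw [MonoidHom.map_zpowers]
        simp [mul_assoc]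
      rw [← hl', smul_smul, Sylow.smul_eq_iff_mem_normalizer] at hgR
      have hmem : g * (l : G) ∈ normalizer ((R : Subgroup G) : Set G) := hgR
      rw [hR] at hmem
      have := mul_mem (hNL hmem) (inv_mem l.2)
      simpa using this
  have hfree : ∀ x : G ⧸ L, x ≠ x₀ → ∀ i j : ℕ, v ^ i • x = v ^ j • x → i % 7 = j % 7 := by
    intro x hx i j e
    by_contra hne
    have hs : (v ^ j)⁻¹ * v ^ i ∈ stabilizer G x := by
      rw [mem_stabilizer_iff, mul_smul, e, inv_smul_smul]
    have hord : orderOf ((v ^ j)⁻¹ * v ^ i) = 7 := by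
      have hmem : (v ^ j)⁻¹ * v ^ i ∈ zpowers v :=
        mul_mem (inv_mem (Subgroup.pow_mem _ (mem_zpowers v) j)) (Subgroup.pow_mem _ (mem_zpowers v) i)
      have := Subgroup.orderOf_dvd_natCard _ hmem
      rw [Nat.card_zpowers, hv, Nat.dvd_prime (by norm_num)] at this
      refine this.resolve_left fun e1 => hne ?_
      have := pow_inj_mod.mp (inv_mul_eq_one.mp (orderOf_eq_one_iff.mp e1)).symm
      rwa [hv] at this
    have hle : zpowers ((v ^ j)⁻¹ * v ^ i) = zpowers v := eq_of_le_of_card_ge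
      (zpowers_le.mpr (mul_mem (inv_mem (Subgroup.pow_mem _ (mem_zpowers v) j)) (Subgroup.pow_mem _ (mem_zpowers v) i)))
      (by rw [Nat.card_zpowers, Nat.card_zpowers, hord, hv])
    exact hx (hfixv x ((zpowers_le.mpr hs) (hle ▸ mem_zpowers v)))
  -- two more fixed points of `r`
  obtain ⟨a, b, hab, hax, hbx, hra, hrb⟩ : ∃ a b : G ⧸ L, a ≠ b ∧ a ≠ x₀ ∧ b ≠ x₀ ∧ r • a = a ∧ r • b = b := by
    have h3 := (IsPGroup.of_card (n := 1) (show Nat.card (zpowers r) = 3 ^ 1 by
      rw [Nat.card_zpowers, hr, pow_one])).card_modEq_card_fixedPoints (G ⧸ L)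
    rw [Nat.card_eq_fintype_card (α := G ⧸ L), hX] at h3
    set F := fixedPoints (zpowers r) (G ⧸ L)
    have hx₀F : x₀ ∈ F := fun ⟨w, hw⟩ => (hstab w).mpr ((zpowers_le.mpr hrL) hw)
    haveI : Nonempty F := ⟨⟨x₀, hx₀F⟩⟩
    have hpos : 0 < Nat.card F := Nat.card_pos
    unfold Nat.ModEq at h3
    haveI := Fintype.ofFinite F
    have h2 : 2 < Fintype.card F := by rw [← Nat.card_eq_fintype_card]; omega
    obtain ⟨⟨a, ha⟩, ⟨b, hb⟩, ⟨c, hc⟩, hab, hac, hbc⟩ := Fintype.two_lt_card_iff.mp h2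
    simp only [ne_eq, Subtype.mk.injEq] at hab hac hbc
    have hr' : ∀ x ∈ F, r • x = x := fun x hx => hx ⟨r, mem_zpowers r⟩
    by_cases ha0 : a = x₀
    · exact ⟨b, c, hbc, fun e => hab (ha0.trans e.symm), fun e => hac (ha0.trans e.symm), hr' b hb, hr' c hc⟩
    by_cases hb0 : b = x₀
    · exact ⟨a, c, hac, ha0, fun e => hbc (hb0.trans e.symm), hr' a ha, hr' c hc⟩
    exact ⟨a, b, hab, ha0, hb0, hr' a ha, hr' b hb⟩
  have hrpow : ∀ (i : ℕ) (x : G ⧸ L), r • x = x → r • v ^ i • x = v ^ (2 * i) • x := by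
    intro i x hx
    have h1 : r * v ^ i = v ^ (2 * i) * r := by
      rw [pow_mul, ← hrv, conj_pow]; group
    rw [smul_smul, h1, ← smul_smul, hx]
  have hsep : ∀ i j : ℕ, v ^ i • a ≠ v ^ j • b := by
    intro i j e
    have hb : b = v ^ (i + 6 * j) • a := by
      rw [add_comm i, pow_add, ← smul_smul, e, smul_smul, ← pow_add, show 6 * j + j = 7 * j by omega, pow_mul, ← hv,
        pow_orderOf_eq_one, one_pow, one_smul]
    have h2 := hrpow (i + 6 * j) a hra
    rw [← hb, hrb, hb] at h2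
    have h3 := hfree a hax _ _ h2
    have h0 : (i + 6 * j) % 7 = 0 := by omega
    rw [← pow_mod_orderOf, hv, h0, pow_zero, one_smul] at hb
    exact hab hb.symm
  -- the labelling
  let base : Fin 15 → G ⧸ L := ![x₀, a, a, a, a, a, a, a, b, b, b, b, b, b, b]
  let expo : Fin 15 → ℕ := ![0, 0, 1, 2, 3, 4, 5, 6, 0, 1, 2, 3, 4, 5, 6]
  let e : Fin 15 → G ⧸ L := fun i => v ^ expo i • base i
  have hvx₀ : ∀ n : ℕ, v ^ n • x₀ = x₀ := fun n => (hstab _).mpr (pow_mem hvL n)
  have he : Function.Injective e := by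
    intro i j hij
    have key : ∀ i : Fin 15, (i = 0 ∧ base i = x₀) ∨ ((1 ≤ (i : ℕ) ∧ (i : ℕ) ≤ 7) ∧ base i = a ∧ expo i = (i : ℕ) - 1) ∨
        ((8 ≤ (i : ℕ)) ∧ base i = b ∧ expo i = (i : ℕ) - 8) := by
      intro i
      fin_cases i <;> simp [base, expo]
    have hx : ∀ (n : ℕ) (c : G ⧸ L), c ≠ x₀ → v ^ n • c ≠ x₀ := fun n c hc e1 => hc (by
      rwa [smul_eq_iff_eq_inv_smul, ← (eq_inv_smul_iff.mpr (hvx₀ n))] at e1)
    simp only [e] at hij
    rcases key i with ⟨rfl, hi⟩ | ⟨hi, hib, hie⟩ | ⟨hi, hib, hie⟩ <;>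
      rcases key j with ⟨rfl, hj⟩ | ⟨hj, hjb, hje⟩ | ⟨hj, hjb, hje⟩
    · rfl
    · rw [hi, hvx₀, hjb] at hij; exact absurd hij.symm (hx _ _ hax)
    · rw [hi, hvx₀, hjb] at hij; exact absurd hij.symm (hx _ _ hbx)
    · rw [hj, hvx₀, hib] at hij; exact absurd hij (hx _ _ hax)
    · rw [hib, hjb, hie, hje] at hij
      have := hfree a hax _ _ hij
      exact Fin.ext (by omega)
    · rw [hib, hjb] at hij; exact absurd hij (hsep _ _)
    · rw [hj, hvx₀, hib] at hij; exact absurd hij (hx _ _ hbx)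
    · rw [hib, hjb] at hij; exact absurd hij.symm (hsep _ _)
    · rw [hib, hjb, hie, hje] at hij
      have := hfree b hbx _ _ hij
      exact Fin.ext (by omega)
  let E : Fin 15 ≃ G ⧸ L := Equiv.ofBijective e ((Fintype.bijective_iff_injective_and_card e).mpr ⟨he, by rw [hX]; rfl⟩)
  let φ : G →* Perm (Fin 15) := E.symm.permCongrHom.toMonoidHom.comp (toPermHom G (G ⧸ L))
  have hφ : ∀ (g : G) (i : Fin 15), φ g i = E.symm (g • E i) := fun g i => rfl
  have hφeq : ∀ (g : G) (π : Perm (Fin 15)), (∀ i, g • e i = e (π i)) → φ g = π := fun g π hg =>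
    Equiv.ext fun i => by
      rw [hφ, Equiv.symm_apply_eq]
      exact hg i
  have hwrap : ∀ (n : ℕ) (c : G ⧸ L), v ^ n • c = v ^ (n % 7) • c := fun n c => by
    rw [← hv, pow_mod_orderOf]
  have hφv : φ v = permU := hφeq v permU fun i => by
    show v • v ^ expo i • base i = v ^ expo (permU i) • base (permU i)
    rw [smul_smul, ← pow_succ', hwrap]
    fin_cases i <;> simp [base, expo, permU, (hstab v).mpr hvL]
  have hφr : φ r = permR := hφeq r permR fun i => by
    show r • v ^ expo i • base i = v ^ expo (permR i) • base (permR i)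
    rw [hrpow (expo i) (base i) (by fin_cases i <;> simp [base, hra, hrb, (hstab r).mpr hrL]), hwrap]
    fin_cases i <;> simp [base, expo, permR]
  have hφinj : Function.Injective φ :=
    E.symm.permCongrHom.injective.comp (toPermHom_quotient_injective hLne)
  have hφL : ∀ g, φ g 0 = 0 ↔ g ∈ L := fun g => by
    rw [hφ, Equiv.symm_apply_eq, show E 0 = x₀ from hvx₀ 0]
    exact hstab g
  -- the completion
  obtain ⟨P, hP⟩ := (IsPGroup.of_card (n := 1) (show Nat.card (zpowers r) = 3 ^ 1 by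
    rw [Nat.card_zpowers, hr, pow_one])).exists_le_sylow
  have hrP : r ∈ (P : Subgroup G) := hP (mem_zpowers r)
  have hP9 : Nat.card (P : Subgroup G) = 9 := by
    simpa using card_sylow_subgroup_eq (k := 2) (m := 280) (by rw [h]; norm_num) (by norm_num) P
  have hLc : Nat.card L = 168 := by
    have := L.card_mul_index
    rw [hLi, h] at this
    omega
  obtain ⟨k, hkP, hkL⟩ : ∃ k ∈ (P : Subgroup G), k ∉ L := by
    by_contra hno
    push Not at hno
    have := card_dvd_of_le (show (P : Subgroup G) ≤ L from hno)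
    rw [hP9, hLc] at this
    norm_num at this
  have hcommP := IsPGroup.isMulCommutative_of_card_eq_prime_sq (G := (P : Subgroup G)) (p := 3) (by rw [hP9]; norm_num)
  have hkr : k * r = r * k := congrArg Subtype.val (hcommP.is_comm.comm ⟨k, hkP⟩ ⟨r, hrP⟩)
  have hk9 : k ^ 9 = 1 := orderOf_dvd_iff_pow_eq_one.mp (hP9 ▸ Subgroup.orderOf_dvd_natCard _ hkP)
  have hcyc : ∀ g ∈ (P : Subgroup G), g ∉ L → g * r = r * g → φ g 0 = 1 → φ g 1 = 8 ∧ φ g 8 = 0 := by
    intro g hgP hgL hgr h01
    have hc : φ g * permR = permR * φ g := by rw [← hφr, ← map_mul, hgr, map_mul]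
    have hfx : ∀ x, permR x = x → permR (φ g x) = φ g x := fun x hx => by
      have := Equiv.Perm.congr_fun hc x
      rw [Equiv.Perm.mul_apply, Equiv.Perm.mul_apply, hx] at this
      exact this.symm
    have hg9 : φ g ^ 9 = 1 := by
      rw [← map_pow, show g ^ 9 = 1 from orderOf_dvd_iff_pow_eq_one.mp (hP9 ▸ Subgroup.orderOf_dvd_natCard _ hgP),
        map_one]
    have h18 : φ g 1 = 8 := by
      rcases fixed_permR _ (hfx 1 (by decide)) with e | e | e
      · exfalso
        have h2 : g ^ 2 ∈ L := (hφL _).mp (by rw [pow_two, map_mul, Equiv.Perm.mul_apply, h01, e])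
        have h10 : (g ^ 2) ^ 5 = g := by
          rw [← pow_mul]
          show g ^ (9 + 1) = g
          rw [pow_succ, show g ^ 9 = 1 from orderOf_dvd_iff_pow_eq_one.mp (hP9 ▸ Subgroup.orderOf_dvd_natCard _ hgP),
            one_mul]
        exact hgL (h10 ▸ pow_mem h2 5)
      · exact absurd ((φ g).injective (h01.trans e.symm)) (by decide)
      · exact e
    refine ⟨h18, ?_⟩
    rcases fixed_permR _ (hfx 8 (by decide)) with e | e | e
    · exact e
    · exact absurd ((φ g).injective (h01.trans e.symm)) (by decide)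
    · exact absurd ((φ g).injective (h18.trans e.symm)) (by decide)
  obtain ⟨g, hgP, hgL, hgr, h01⟩ : ∃ g ∈ (P : Subgroup G), g ∉ L ∧ g * r = r * g ∧ φ g 0 = 1 := by
    have hc : φ k * permR = permR * φ k := by rw [← hφr, ← map_mul, hkr, map_mul]
    have h0 : permR (φ k 0) = φ k 0 := by
      have := Equiv.Perm.congr_fun hc 0
      rw [Equiv.Perm.mul_apply, Equiv.Perm.mul_apply, show permR 0 = 0 by decide] at this
      exact this.symm
    rcases fixed_permR _ h0 with e | e | e
    · exact absurd ((hφL k).mp e) hkL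
    · exact ⟨k, hkP, hkL, hkr, e⟩
    · have h80 : permR (φ k 8) = φ k 8 := by
        have := Equiv.Perm.congr_fun hc 8
        rw [Equiv.Perm.mul_apply, Equiv.Perm.mul_apply, show permR 8 = 8 by decide] at this
        exact this.symm
      rcases fixed_permR _ h80 with e' | e' | e'
      · exfalso
        have h2 : k ^ 2 ∈ L := (hφL _).mp (by rw [pow_two, map_mul, Equiv.Perm.mul_apply, e, e'])
        have h10 : (k ^ 2) ^ 5 = k := by
          rw [← pow_mul]
          show k ^ (9 + 1) = k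
          rw [pow_succ, hk9, one_mul]
        exact hkL (h10 ▸ pow_mem h2 5)
      · refine ⟨k ^ 2, pow_mem hkP 2, fun h2 => hkL ?_, (Commute.pow_left hkr 2).eq,
          by rw [pow_two, map_mul, Equiv.Perm.mul_apply, e, e']⟩
        have h10 : (k ^ 2) ^ 5 = k := by
          rw [← pow_mul]
          show k ^ (9 + 1) = k
          rw [pow_succ, hk9, one_mul]
        exact h10 ▸ pow_mem h2 5
      · exact absurd ((φ k).injective (e.trans e'.symm)) (by decide)
  obtain ⟨h18, h80⟩ := hcyc g hgP hgL hgr h01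
  refine ⟨φ, φ g, hφinj, ?_, by rw [← hφr, ← map_mul, hgr, map_mul], h01, h18, h80, ?_⟩
  · rw [MonoidHom.range_eq_map, ← closure_eq_top h hv hr hrN hrL hgL P hrP hgP hP9, MonoidHom.map_closure]
    simp [Set.image_insert_eq, hφv, hφr]
  · rw [← map_pow, show g ^ 9 = 1 from orderOf_dvd_iff_pow_eq_one.mp (hP9 ▸ Subgroup.orderOf_dvd_natCard _ hgP), map_one]

theorem nonempty_mulEquiv_model : Nonempty (G ≃* model) := by
  obtain ⟨φ, σ, hφ, hrange, hc, h0, h1, h8, h9⟩ := exists_embedding h
  have hord : ∀ w ∈ φ.range, w ^ 5 = 1 ∨ w ^ 7 = 1 ∨ w ^ 72 = 1 := by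
    rintro _ ⟨g, rfl⟩
    rcases pow_eq_one_cases h g with e | e | e
    · exact .inl (by rw [← map_pow, e, map_one])
    · exact .inr (.inl (by rw [← map_pow, e, map_one]))
    · exact .inr (.inr (by rw [← map_pow, e, map_one]))
  have hU : permU ∈ φ.range := hrange ▸ subset_closure (by simp)
  have hR : permR ∈ φ.range := hrange ▸ subset_closure (by simp)
  have hS : σ ∈ φ.range := hrange ▸ subset_closure (by simp)
  obtain ⟨C, hC, t, ht, hconj⟩ := exists_conj hc h0 h1 h8 h9 (fun w hw => hord w (by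
    simp only [List.mem_cons, List.not_mem_nil, or_false] at hw
    rcases hw with rfl | rfl | rfl | rfl | rfl
    · exact mul_mem hU (mul_mem hS hR)
    · exact mul_mem hU (mul_mem hS (mul_mem hS hR))
    · exact mul_mem hU (mul_mem hU (mul_mem (pow_mem hS 8) (mul_mem hU hS)))
    · exact mul_mem (pow_mem hU 6) (mul_mem hS (mul_mem hS (mul_mem hR (mul_mem (pow_mem hU 6) (mul_mem hS hR)))))
    · exact mul_mem hU (mul_mem hS (mul_mem hU (mul_mem hS (mul_mem hU (pow_mem hS 8)))))))
  obtain ⟨hCR, j, i, hCU, hji⟩ := conjPerms_facts C hC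
  obtain ⟨⟨p, q, hK⟩, p', q', htK⟩ := targetPerms_facts t ht
  have eR : MulAut.conj C permR = permR := by rw [MulAut.conj_apply, hCR, mul_inv_cancel_right]
  have eU : MulAut.conj C permU = permU ^ j := by rw [MulAut.conj_apply, hCU, mul_inv_cancel_right]
  have eS : MulAut.conj C σ = t := by rw [MulAut.conj_apply, hconj, mul_inv_cancel_right]
  have hmap : φ.range.map (MulAut.conj C).toMonoidHom = model := by
    apply le_antisymm
    · rw [hrange, MonoidHom.map_closure, closure_le]
      have mU : permU ∈ model := subset_closure (by simp)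
      have mR : permR ∈ model := subset_closure (by simp)
      have mK : permK ∈ model := subset_closure (by simp)
      rintro _ ⟨w, hw, rfl⟩
      simp only [Set.mem_insert_iff, Set.mem_singleton_iff] at hw
      show MulAut.conj C w ∈ model
      rcases hw with rfl | rfl | rfl
      · rw [eU]; exact pow_mem mU j
      · rw [eR]; exact mR
      · rw [eS, htK]; exact mul_mem (pow_mem mK p') (pow_mem mR q')
    · rw [model, closure_le]
      intro w hw
      simp only [Set.mem_insert_iff, Set.mem_singleton_iff] at hw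
      rw [SetLike.mem_coe]
      rcases hw with rfl | rfl | rfl
      · exact ⟨permU ^ i, pow_mem hU i, by
          show MulAut.conj C (permU ^ i) = permU
          rw [map_pow, eU, hji]⟩
      · exact ⟨permR, hR, eR⟩
      · exact ⟨σ ^ p * permR ^ q, mul_mem (pow_mem hS p) (pow_mem hR q), by
          show MulAut.conj C (σ ^ p * permR ^ q) = permK
          rw [map_mul, map_pow, map_pow, eS, eR, ← hK]⟩
  exact ⟨((MonoidHom.ofInjective hφ).trans ((φ.range).equivMapOfInjective _ (MulAut.conj C).injective)).trans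
    (MulEquiv.subgroupCongr hmap)⟩

end CfsgLib.A7Order
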