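import Mathlib

/-!
# Completing a group of order 21 to a transitive group of order 2520 on 15 points

Permutations of `Fin 15` are packed into natural numbers, four bits for each image.
-/

set_option autoImplicit false

namespace CfsgLib.A7Order

/-- The image of `i` under a packed map. -/
def app (n i : ℕ) : ℕ := (n >>> (4 * i)) % 16

/-- Packing of a map of `Fin 15`. -/
def pack (f : ℕ → ℕ) : ℕ :=
  ([14, 13, 12, 11, 10, 9, 8, 7, 6, 5, 4, 3, 2, 1, 0] : List ℕ).foldl (fun acc i => acc * 16 + f i) 0

/-- Composition of packed maps. -/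
def comp (a b : ℕ) : ℕ := pack fun i => app a (app b i)

/-- The packed identity. -/
def idP : ℕ := pack fun i => i

/-- Power by repeated squaring. -/
def sqs (a : ℕ) : ℕ → ℕ
  | 0 => a
  | n + 1 => sqs (comp a a) n

/-- The order of the packed map divides one of `72`, `5`, `7`. -/
def goodOrder (a : ℕ) : Bool :=
  let a2 := comp a a
  let a4 := comp a2 a2
  let a8 := comp a4 a4
  Nat.beq (comp a4 a) idP || Nat.beq (comp a4 (comp a2 a)) idP || Nat.beq (comp (sqs a8 3) a8) idP

/-- The element of order seven. -/
def uP : ℕ := pack fun i => if i = 0 then 0 else if i ≤ 7 then i % 7 + 1 else (i - 7) % 7 + 8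

/-- The element of order three normalizing it. -/
def rP : ℕ := pack fun i => if i = 0 then 0 else if i ≤ 7 then 2 * (i - 1) % 7 + 1 else 2 * (i - 8) % 7 + 8

/-- The inverse of `uP`. -/
def uI : ℕ := pack fun i => if i = 0 then 0 else if i ≤ 7 then (i + 5) % 7 + 1 else (i - 8 + 6) % 7 + 8

/-- The inverse of `rP`. -/
def rI : ℕ := comp rP rP

/-- The map commuting with `rP`, sending `0 ↦ 1 ↦ 8 ↦ 0` and `2, 4, 9, 11` to `a, b, c, d`. -/
def cand (a b c d : ℕ) : ℕ :=
  let a' := app rP a
  let b' := app rP b
  let c' := app rP c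
  let d' := app rP d
  pack fun i =>
    match i with
    | 0 => 1 | 1 => 8 | 8 => 0
    | 2 => a | 3 => a' | 5 => app rP a'
    | 4 => b | 7 => b' | 6 => app rP b'
    | 9 => c | 10 => c' | 12 => app rP c'
    | 11 => d | 14 => d' | 13 => app rP d'
    | _ => 15

/-- The orbit of `rP` through a moved point. -/
def orbitOf (a : ℕ) : ℕ :=
  if a = 2 ∨ a = 3 ∨ a = 5 then 0 else if a = 4 ∨ a = 7 ∨ a = 6 then 1 else if a = 9 ∨ a = 10 ∨ a = 12 then 2 else 3

/-- The points outside the fixed points of `rP`. -/
def moved : List ℕ := [2, 3, 5, 4, 7, 6, 9, 10, 12, 11, 14, 13]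

/-- The word tests. -/
def wordsOk (k k8 : ℕ) : Bool :=
  goodOrder (comp uP (comp k rP)) && goodOrder (comp uP (comp k (comp k rP))) &&
    goodOrder (comp uP (comp uP (comp k8 (comp uP k)))) &&
    goodOrder (comp uI (comp k (comp k (comp rP (comp uI (comp k rP)))))) &&
    goodOrder (comp uP (comp k (comp uP (comp k (comp uP k8)))))

/-- The four conjugating maps and the model generator. -/
def conjs : List ℕ :=
  [idP, pack fun i => if i = 0 then 0 else if i ≤ 7 then 3 * (i - 1) % 7 + 1 else 3 * (i - 8) % 7 + 8,
    pack fun i => if i = 0 then 0 else if i ≤ 7 then 3 * (i - 1) % 7 + 8 else 3 * (i - 8) % 7 + 1,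
    pack fun i => if i = 0 then 0 else if i ≤ 7 then i + 7 else i - 7]

/-- The model completion. -/
def k0P : ℕ := pack fun i => ([1, 8, 4, 7, 11, 6, 13, 14, 0, 9, 10, 2, 12, 5, 3] : List ℕ).getD i 15

/-- The powers of the model completion times those of `rP`. -/
def targets : List ℕ :=
  let k0' := comp k0P k0P
  [k0P, comp k0P rP, comp k0P rI, k0', comp k0' rP, comp k0' rI]

/-- Some listed map carries `k` into the targets. -/
def normalizes (k : ℕ) : Bool :=
  conjs.any fun c => targets.any fun t => Nat.beq (comp c k) (comp t c)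

/-- The test of a candidate. -/
def checkCand (a b c d : ℕ) : Bool :=
  let k := cand a b c d
  let k2 := comp k k
  let k8 := sqs k2 2
  !(Nat.beq (comp k8 k) idP && wordsOk k k8) || normalizes k

/-- The test of all candidates. -/
def checkAll : Bool :=
  moved.all fun a => moved.all fun b => orbitOf a == orbitOf b ||
    moved.all fun c => orbitOf a == orbitOf c || orbitOf b == orbitOf c ||
      moved.all fun d => orbitOf a == orbitOf d || orbitOf b == orbitOf d || orbitOf c == orbitOf d ||
        checkCand a b c d

theorem checkAll_eq : checkAll = true := by decide +kernel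

end CfsgLib.A7Order
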