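import Cfsg.Agent.A7Order.Tools
import Cfsg.Agent.A7Order.Local
import Cfsg.Agent.M11Order.Sylow
import Cfsg.Agent.Chars.Ito.TwoPrimeChar
import Cfsg.Agent.Blocks.AbelianFrobenius.IndexThree
import Mathlib

/-!
# The principal 7-block and the involution centralizer of a simple group of order 2520
-/

set_option autoImplicit false
set_option linter.style.haveILetI false

namespace CfsgLib.A7Order

open Cfsg CfsgLib.Chars CfsgLib.SylowToolkit CfsgLib.Sieve.PrimeLocal Subgroup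
open scoped ComplexConjugate

universe u

/-- The possible degrees and signs in the principal 7-block. -/
def tuples : List (ℕ × ℤ × ℕ × ℤ × ℕ × ℤ) :=
  [(15, 1, 6, -1, 10, 1), (8, 1, 6, -1, 3, 1), (15, 1, 20, -1, 4, -1), (8, 1, 15, 1, 24, 1)]

/-- The sign of a degree congruent to `±1` modulo 7. -/
def sgnSeven (a : ℕ) : ℤ := if a % 7 = 1 then 1 else -1

set_option synthInstance.maxSize 100000 in
set_option synthInstance.maxHeartbeats 1000000 in
theorem key_tuples : ∀ a ∈ Nat.divisors 2520, ∀ b ∈ Nat.divisors 2520, a < 51 → b < 51 → 2 ≤ a → 2 ≤ b →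
    (a % 7 = 1 ∨ a % 7 = 6) → (b % 7 = 1 ∨ b % 7 = 6) →
    2 ≤ (1 + sgnSeven a * a + sgnSeven b * b).natAbs → 2520 % (1 + sgnSeven a * a + sgnSeven b * b).natAbs = 0 →
    1 + a ^ 2 + b ^ 2 + 2 * (1 + sgnSeven a * a + sgnSeven b * b).natAbs ^ 2 ≤ 2520 →
    (a, sgnSeven a, b, sgnSeven b, (1 + sgnSeven a * a + sgnSeven b * b).natAbs, Int.sign (1 + sgnSeven a * a + sgnSeven b * b)) ∈ tuples ∨
    (b, sgnSeven b, a, sgnSeven a, (1 + sgnSeven a * a + sgnSeven b * b).natAbs, Int.sign (1 + sgnSeven a * a + sgnSeven b * b)) ∈ tuples := by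
  decide +kernel

/-- The arithmetic of an involution. -/
def checkTwo (x : ℕ × ℤ × ℕ × ℤ × ℕ × ℤ) (a b : ℤ) (C : ℕ) : Bool :=
  let A := x.1
  let sA := x.2.1
  let B := x.2.2.1
  let sB := x.2.2.2.1
  let c := x.2.2.2.2.1
  let ε := x.2.2.2.2.2
  let y := ε * (1 + sA * a + sB * b)
  !(((A : ℤ) - a) % 4 == 0 && ((B : ℤ) - b) % 4 == 0 && ((c : ℤ) - y) % 4 == 0 &&
      decide (y.natAbs < c) &&
      (A : ℤ) * B * c + sA * a * a * (B * c : ℕ) + sB * b * b * (A * c : ℕ) - ε * y * y * (A * B : ℕ) == 0 &&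
      C % 2 == 0 && !(C % 7 == 0) && decide (1 + a * a + b * b + 2 * y * y ≤ (C : ℤ)) &&
      ((2520 / C : ℕ) : ℤ) * a % (A : ℤ) == 0 && ((2520 / C : ℕ) : ℤ) * b % (B : ℤ) == 0 &&
      ((2520 / C : ℕ) : ℤ) * y % (c : ℤ) == 0) ||
    (c == 3 || (A == 15 && B == 6 && c == 10 && a == -1 && (b == 2 || b == -2) && C == 24))

theorem checkTwo_all : (tuples.all fun x => (List.range 41).all fun i => (List.range 41).all fun j =>
    !(decide (((i : ℤ) - 20).natAbs < x.1) && decide (((j : ℤ) - 20).natAbs < x.2.2.1)) ||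
      (((List.range 64).filterMap fun k => if 2520 % (k + 1) = 0 then some (k + 1) else none) ++
        ((List.range 40).filterMap fun k => if 2520 % (k + 1) = 0 then some (2520 / (k + 1)) else none)).all
          fun C => checkTwo x ((i : ℤ) - 20) ((j : ℤ) - 20) C) = true := by decide +kernel

section General

variable {G : Type u} [Group G]

/-- A character alone of its degree is integer valued. -/
theorem exists_int_of_unique [Fintype G] (χ : IrrCharacter G)
    (h : ∀ ψ : IrrCharacter G, charDegree (ψ : G → ℂ) = charDegree (χ : G → ℂ) → ψ = χ) (g : G) :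
    ∃ m : ℤ, (χ : G → ℂ) g = m := by
  refine CfsgLib.Chars.Ito.exists_int_of_fixed (isCharacter_coe χ) (fun σ x => ?_) g
  have hd : charDegree ((⟨_, isIrrCharacter_ringHom χ.2 σ⟩ : IrrCharacter G) : G → ℂ) = charDegree (χ : G → ℂ) :=
    charDegree_eq_of_map_one (by
      show σ ((χ : G → ℂ) 1) = _
      rw [← coe_charDegree, map_natCast])
  exact congrFun (congrArg Subtype.val (h _ hd)) x

/-- An integral value is smaller than the degree. -/
theorem natAbs_lt_degree [Finite G] [IsSimpleGroup G] (hc : ¬ IsMulCommutative G) {χ : IrrCharacter G}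
    (h : χ ≠ oneChar G) {g : G} (hg : g ≠ 1) {a : ℤ} (ha : (χ : G → ℂ) g = a) :
    a.natAbs < charDegree (χ : G → ℂ) := by
  have h1 := norm_apply_le (isCharacter_coe χ) g
  rw [← coe_charDegree, ha, Complex.norm_natCast, Complex.norm_intCast] at h1
  have h2 : a.natAbs ≤ charDegree (χ : G → ℂ) := by
    rw [← Int.cast_abs, ← Int.natCast_natAbs, Int.cast_natCast] at h1
    exact_mod_cast h1
  refine lt_of_le_of_ne h2 fun e => hg (CfsgLib.M11Order.eq_one_of_norm_eq hc h ?_)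
  rw [ha, Complex.norm_intCast, ← Int.cast_abs, ← Int.natCast_natAbs, Int.cast_natCast, e]

/-- The degree divides class size times value. -/
theorem degree_dvd_index_mul [Finite G] (χ : IrrCharacter G) {g : G} {a : ℤ} (ha : (χ : G → ℂ) g = a) :
    (charDegree (χ : G → ℂ) : ℤ) ∣ ((centralizer ({g} : Set G)).index : ℤ) * a := by
  have hd : (charDegree (χ : G → ℂ) : ℤ) ≠ 0 := by exact_mod_cast (charDegree_pos χ).ne'
  have hint := isIntegral_centralChar χ g
  set q : ℚ := (((centralizer ({g} : Set G)).index : ℤ) * a : ℤ) / (charDegree (χ : G → ℂ) : ℤ)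
  have hq : centralChar (χ : G → ℂ) g = algebraMap ℚ ℂ q := by
    rw [centralChar, ha, ← coe_charDegree]
    simp [q]
  rw [hq] at hint
  obtain ⟨m, hm⟩ := IsIntegrallyClosed.isIntegral_iff.mp
    ((isIntegral_algebraMap_iff (algebraMap ℚ ℂ).injective).mp hint)
  refine ⟨m, ?_⟩
  have h1 : ((((centralizer ({g} : Set G)).index : ℤ) * a : ℤ) : ℚ) = ((charDegree (χ : G → ℂ) : ℤ) * m : ℤ) := by
    have h2 : (algebraMap ℤ ℚ) m = q := hm
    have hd' : ((charDegree (χ : G → ℂ) : ℤ) : ℚ) ≠ 0 := by exact_mod_cast hd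
    simp only [algebraMap_int_eq, eq_intCast, q] at h2
    rw [eq_div_iff hd'] at h2
    push_cast at h2 ⊢
    linarith
  exact_mod_cast h1

end General

/-- The principal 7-block. -/
structure BlockSeven (G : Type u) [Group G] [Fintype G] where
  χA : IrrCharacter G
  χB : IrrCharacter G
  θ : IrrCharacter G
  θ' : IrrCharacter G
  A : ℕ
  B : ℕ
  c : ℕ
  sA : ℤ
  sB : ℤ
  ε : ℤ
  nodup : [oneChar G, χA, χB, θ, θ'].Nodup
  degA : charDegree (χA : G → ℂ) = A
  degB : charDegree (χB : G → ℂ) = B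
  degθ : charDegree (θ : G → ℂ) = c
  degθ' : charDegree (θ' : G → ℂ) = c
  mem : (A, sA, B, sB, c, ε) ∈ tuples
  u : G
  hu : orderOf u = 7
  hCu : Nat.card (centralizer ({u} : Set G)) = 7
  valA : (χA : G → ℂ) u = sA
  valB : (χB : G → ℂ) u = sB
  valθ : (θ : G → ℂ) u + (θ' : G → ℂ) u = -ε
  out : ∀ χ, χ ∉ [oneChar G, χA, χB, θ, θ'] → 7 ∣ charDegree (χ : G → ℂ) ∧ ∀ g, orderOf g = 7 → (χ : G → ℂ) g = 0
  rel : ∀ g : G, ¬ 7 ∣ orderOf g → (θ : G → ℂ) g = ε * (1 + sA * (χA : G → ℂ) g + sB * (χB : G → ℂ) g) ∧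
    (θ' : G → ℂ) g = (θ : G → ℂ) g

section
variable {G : Type u} [Group G] [Fintype G] [IsSimpleGroup G] (h : Nat.card G = 2520)

include h

omit [Fintype G] [IsSimpleGroup G] in
theorem seven_idx {g : G} (hg : orderOf g = 7) : ¬ 7 ∣ (zpowers g).index := by
  have := (zpowers g).card_mul_index
  rw [Nat.card_zpowers, hg, h] at this
  omega

theorem centralizer_seven {g : G} (hg : orderOf g = 7) : Nat.card (centralizer ({g} : Set G)) = 7 := by
  haveI : Fact (Nat.Prime 7) := ⟨by norm_num⟩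
  obtain ⟨R, hR⟩ := exists_zpowers_eq_sylow (seven_local h) hg
  rw [← CfsgLib.M11Order.centralizer_zpowers, ← hR, ((seven_local h).2 R).2]

theorem exists_blockSeven : Nonempty (BlockSeven G) := by
  classical
  haveI h7 : Fact (Nat.Prime 7) := ⟨by norm_num⟩
  have hc := not_comm_2520 h
  obtain ⟨P⟩ := (inferInstance : Nonempty (Sylow 7 G))
  obtain ⟨hP, hCP⟩ := (seven_local h).2 P
  obtain ⟨u, hu, hz, hidx⟩ := CfsgLib.Blocks.OrderP.exists_generator_sylow P hP
  have he : (centralizer (zpowers u : Set G)).relIndex (normalizer (zpowers u : Set G)) = 3 := by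
    rw [hz]
    have h1 := CfsgLib.PrimeGram.relIndex_mul_centralizer (P : Subgroup G)
    have h2 := card_normalizer_mul P
    rw [(seven_local h).1, h] at h2
    rw [hCP] at h1
    omega
  obtain ⟨M, hM⟩ := CfsgLib.Blocks.exists_isPModular 7 (by norm_num)
  haveI := CfsgLib.Blocks.isMaximal_of_isPModular hM
  obtain ⟨X, Y, hd, hB, hX, hY, εX, ε, hε, hXp, hYp, hrel⟩ :=
    CfsgLib.Blocks.OrderP.principal_block_structure hM hu hidx he
  have hout : ∀ χ, χ ∉ X → χ ∉ Y → 7 ∣ charDegree (χ : G → ℂ) ∧ ∀ g, orderOf g = 7 → (χ : G → ℂ) g = 0 :=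
    fun χ h1 h2 =>
      have hnot : χ ∉ principalBlock M G := fun hm => ((hB χ).mp hm).elim h1 h2
      ⟨(CfsgLib.M11Order.outside_block hM hu hidx (centralizer_seven h hu) hnot).1, fun g hg =>
        (CfsgLib.M11Order.outside_block hM hg (seven_idx h hg) (centralizer_seven h hg) hnot).2⟩
  have h1deg : charDegree (oneChar G : G → ℂ) = 1 := charDegree_eq_of_map_one (by rw [oneChar_apply, Nat.cast_one])
  have hone : oneChar G ∈ X := by
    refine ((hB _).mp CfsgLib.Blocks.oneChar_mem_principalBlock).resolve_right fun hmemY => ?_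
    have h1 := hYp _ hmemY
    rw [h1deg] at h1
    rcases hε with rfl | rfl <;> exact absurd h1 (by decide)
  have hε1 : εX (oneChar G) = 1 := by
    obtain ⟨hs, hcong, -⟩ := hXp _ hone
    rw [h1deg] at hcong
    rcases hs with e | e
    · exact e
    · rw [e] at hcong; exact absurd hcong (by decide)
  obtain ⟨φ, φ', hφne, hXeq⟩ := Finset.card_eq_two.mp
    (show (X.erase (oneChar G)).card = 2 by rw [Finset.card_erase_of_mem hone, hX])
  obtain ⟨θ, θ', hθne, hYeq⟩ := Finset.card_eq_two.mp (show Y.card = 2 by rw [hY])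
  have hφm : φ ∈ X.erase (oneChar G) := by rw [hXeq]; simp
  have hφm' : φ' ∈ X.erase (oneChar G) := by rw [hXeq]; simp
  have hθY : θ ∈ Y := by rw [hYeq]; simp
  have hθY' : θ' ∈ Y := by rw [hYeq]; simp
  have hval : ∀ χ ∈ X, (χ : G → ℂ) u = (εX χ : ℂ) := fun χ hχ => by
    simpa using (hXp χ hχ).2.2 u (mem_zpowers u) (fun e => by rw [e, orderOf_one] at hu; norm_num at hu)
      1 (Commute.one_left _) (by simp)
  have hε0 : (ε : ℂ) ≠ 0 := by rcases hε with rfl | rfl <;> norm_num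
  have hεε : (ε : ℂ) * ε = 1 := by rcases hε with rfl | rfl <;> norm_num
  have hsame : ∀ g : G, ¬ 7 ∣ orderOf g →
      (θ : G → ℂ) g = ε * (1 + εX φ * (φ : G → ℂ) g + εX φ' * (φ' : G → ℂ) g) ∧ (θ' : G → ℂ) g = (θ : G → ℂ) g := by
    intro g hg
    have h1 := hrel θ hθY g hg
    have h2 := hrel θ' hθY' g hg
    refine ⟨?_, mul_left_cancel₀ hε0 (h2.trans h1.symm)⟩
    rw [← Finset.add_sum_erase _ _ hone, hXeq, Finset.sum_pair hφne, hε1, oneChar_apply, Int.cast_one, one_mul,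
      ← add_assoc] at h1
    rw [← h1, ← mul_assoc, hεε, one_mul]
  set A := charDegree (φ : G → ℂ) with hA
  set B := charDegree (φ' : G → ℂ) with hB'
  set c := charDegree (θ : G → ℂ) with hc'
  have hc2 : charDegree (θ' : G → ℂ) = c := charDegree_eq_of_map_one (by
    rw [(hsame 1 (by simp)).2, hc', coe_charDegree])
  have heq : (c : ℤ) = ε * (1 + εX φ * A + εX φ' * B) := by
    have h1 := (hsame 1 (by simp)).1
    rw [← coe_charDegree, ← coe_charDegree, ← coe_charDegree, ← hA, ← hB', ← hc'] at h1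
    exact_mod_cast h1
  have hsq : 1 + A ^ 2 + B ^ 2 + 2 * c ^ 2 ≤ 2520 := by
    have hsub := (Finset.sum_le_sum_of_subset (f := fun ψ : IrrCharacter G => charDegree (ψ : G → ℂ) ^ 2)
      (Finset.subset_univ (X ∪ Y))).trans_eq (sum_charDegree_sq (G := G))
    rw [Finset.sum_union hd, ← Finset.add_sum_erase _ _ hone, hXeq, Finset.sum_pair hφne, hYeq,
      Finset.sum_pair hθne, h1deg, hc2, h] at hsub
    simp only [← hA, ← hB', ← hc', one_pow] at hsub
    omega
  have hfact : ∀ ψ ∈ X.erase (oneChar G), charDegree (ψ : G → ℂ) ∈ Nat.divisors 2520 ∧ 2 ≤ charDegree (ψ : G → ℂ) ∧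
      (charDegree (ψ : G → ℂ) % 7 = 1 ∨ charDegree (ψ : G → ℂ) % 7 = 6) ∧ εX ψ = sgnSeven (charDegree (ψ : G → ℂ)) := by
    intro ψ hψ
    obtain ⟨hne, hmem⟩ := Finset.mem_erase.mp hψ
    obtain ⟨hs, hcong, -⟩ := hXp ψ hmem
    have hm : (εX ψ = 1 ∧ charDegree (ψ : G → ℂ) % 7 = 1) ∨ (εX ψ = -1 ∧ charDegree (ψ : G → ℂ) % 7 = 6) := by
      rcases hs with e | e <;> rw [e] at hcong ⊢ <;> unfold Int.ModEq at hcong
      · exact .inl ⟨rfl, by omega⟩
      · exact .inr ⟨rfl, by omega⟩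
    refine ⟨Nat.mem_divisors.mpr ⟨h ▸ charDegree_dvd_card ψ, by norm_num⟩,
      CfsgLib.M11Order.one_lt_charDegree hc hne, ?_, ?_⟩
    · rcases hm with ⟨-, e⟩ | ⟨-, e⟩ <;> omega
    · rcases hm with ⟨e, e'⟩ | ⟨e, e'⟩ <;> rw [e, sgnSeven, e'] <;> norm_num
  obtain ⟨hAd, hA2, hAm, hAs⟩ := hfact φ hφm
  obtain ⟨hBd, hB2, hBm, hBs⟩ := hfact φ' hφm'
  rw [← hA] at hAd hA2 hAm hAs
  rw [← hB'] at hBd hB2 hBm hBs
  rw [hAs, hBs] at heq
  set v := 1 + sgnSeven A * (A : ℤ) + sgnSeven B * (B : ℤ) with hv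
  have hθ1 : θ ≠ oneChar G := fun e => Finset.disjoint_left.mp hd hone (e ▸ hθY)
  have hc0 : 2 ≤ c := CfsgLib.M11Order.one_lt_charDegree hc hθ1
  have hcv : v.natAbs = c ∧ Int.sign v = ε := by
    rcases hε with rfl | rfl
    · have hv0 : v = c := by omega
      rw [hv0]
      exact ⟨Int.natAbs_natCast c, Int.sign_eq_one_of_pos (by omega)⟩
    · have hv0 : v = -(c : ℤ) := by omega
      rw [hv0]
      exact ⟨by simp, Int.sign_eq_neg_one_of_neg (by omega)⟩
  have hA51 : A < 51 := by nlinarith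
  have hB51 : B < 51 := by nlinarith
  have hcd : 2520 % c = 0 := Nat.mod_eq_zero_of_dvd (h ▸ charDegree_dvd_card θ)
  have hkey := key_tuples A hAd B hBd hA51 hB51 hA2 hB2 hAm hBm
  rw [← hv, hcv.1, hcv.2] at hkey
  have hnd : ∀ a b : IrrCharacter G, a ∈ X.erase (oneChar G) → b ∈ X.erase (oneChar G) → a ≠ b →
      [oneChar G, a, b, θ, θ'].Nodup := by
    intro a b ha hb hab
    obtain ⟨ha1, haX⟩ := Finset.mem_erase.mp ha
    obtain ⟨hb1, hbX⟩ := Finset.mem_erase.mp hb
    have hne : ∀ p ∈ X, ∀ q ∈ Y, p ≠ q := fun p hp q hq e => Finset.disjoint_left.mp hd hp (e ▸ hq)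
    simp [List.nodup_cons, Ne.symm ha1, Ne.symm hb1, hab, hθne, Ne.symm hθ1, hne _ hone _ hθY',
      hne a haX θ hθY, hne a haX θ' hθY', hne b hbX θ hθY, hne b hbX θ' hθY']
  have hXmem : ∀ ψ, ψ ∈ X ↔ ψ = oneChar G ∨ ψ = φ ∨ ψ = φ' := fun ψ => by
    conv_lhs => rw [← Finset.insert_erase hone, hXeq]
    simp
  have hvθ : (θ : G → ℂ) u + (θ' : G → ℂ) u = -ε := by
    have h1 := sum_irr_map_one_mul u
    rw [if_neg (fun e => by rw [e, orderOf_one] at hu; norm_num at hu),
      ← Finset.sum_subset (Finset.subset_univ (X ∪ Y)) (fun ψ _ hψ => by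
        simp only [Finset.mem_union, not_or] at hψ
        rw [(hout ψ hψ.1 hψ.2).2 u hu, mul_zero]),
      Finset.sum_union hd, ← Finset.add_sum_erase _ _ hone, hXeq, Finset.sum_pair hφne, hYeq,
      Finset.sum_pair hθne, ← coe_charDegree, ← coe_charDegree, ← coe_charDegree, ← coe_charDegree,
      ← coe_charDegree, h1deg, hc2, ← hA, ← hB', ← hc', oneChar_apply,
      hval φ (Finset.mem_of_mem_erase hφm), hval φ' (Finset.mem_of_mem_erase hφm'), hAs, hBs] at h1
    have hcC : (c : ℂ) ≠ 0 := by exact_mod_cast (show c ≠ 0 by omega)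
    have heqC : (c : ℂ) = ε * (1 + (sgnSeven A : ℂ) * A + (sgnSeven B : ℂ) * B) := by exact_mod_cast heq
    refine mul_left_cancel₀ hcC ?_
    push_cast at h1 ⊢
    linear_combination h1 + (ε : ℂ) * heqC + (1 + (sgnSeven A : ℂ) * A + (sgnSeven B : ℂ) * B) * hεε
  have hYmem : ∀ ψ, ψ ∈ Y ↔ ψ = θ ∨ ψ = θ' := fun ψ => by rw [hYeq]; simp
  rcases hkey (by omega) hcd hsq with hk | hk
  · exact ⟨⟨φ, φ', θ, θ', A, B, c, _, _, ε, hnd φ φ' hφm hφm' hφne, hA.symm, hB'.symm, hc'.symm, hc2, hk, u, hu,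
      centralizer_seven h hu, by rw [← hAs]; exact hval φ (Finset.mem_of_mem_erase hφm),
      by rw [← hBs]; exact hval φ' (Finset.mem_of_mem_erase hφm'), hvθ,
      fun χ hχ => hout χ (fun hx => hχ (by rcases (hXmem χ).mp hx with e | e | e <;> simp [e]))
        (fun hy => hχ (by rcases (hYmem χ).mp hy with e | e <;> simp [e])),
      fun g hg => by rw [← hAs, ← hBs]; exact hsame g hg⟩⟩
  · exact ⟨⟨φ', φ, θ, θ', B, A, c, _, _, ε, hnd φ' φ hφm' hφm hφne.symm, hB'.symm, hA.symm, hc'.symm, hc2, hk, u, hu,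
      centralizer_seven h hu, by rw [← hBs]; exact hval φ' (Finset.mem_of_mem_erase hφm'),
      by rw [← hAs]; exact hval φ (Finset.mem_of_mem_erase hφm), hvθ,
      fun χ hχ => hout χ (fun hx => hχ (by rcases (hXmem χ).mp hx with e | e | e <;> simp [e]))
        (fun hy => hχ (by rcases (hYmem χ).mp hy with e | e <;> simp [e])),
      fun g hg => by rw [← hAs, ← hBs]; exact ⟨(hsame g hg).1.trans (by ring), (hsame g hg).2⟩⟩⟩

end

namespace BlockSeven

variable {G : Type u} [Group G] [Fintype G] (D : BlockSeven G)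

/-- A sum over the characters with terms only in the block. -/
theorem sum_eq (F : IrrCharacter G → ℂ) (hF : ∀ χ, χ ∉ [oneChar G, D.χA, D.χB, D.θ, D.θ'] → F χ = 0) :
    ∑ χ, F χ = F (oneChar G) + F D.χA + F D.χB + F D.θ + F D.θ' := by
  classical
  rw [← Finset.sum_subset (Finset.subset_univ [oneChar G, D.χA, D.χB, D.θ, D.θ'].toFinset)
    fun χ _ hχ => hF χ (by simpa using hχ), List.sum_toFinset _ D.nodup]
  simp [add_assoc]

theorem ne_one : D.χA ≠ oneChar G ∧ D.χB ≠ oneChar G ∧ D.θ ≠ oneChar G := by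
  have := D.nodup
  simp only [List.nodup_cons, List.mem_cons, List.not_mem_nil, not_or] at this
  exact ⟨Ne.symm this.1.1, Ne.symm this.1.2.1, Ne.symm this.1.2.2.1⟩

variable [IsSimpleGroup G] (h : Nat.card G = 2520)

include h

omit [IsSimpleGroup G] h in
theorem unique_degree {χ : IrrCharacter G} (hχ : χ = D.χA ∨ χ = D.χB) (hne : D.A ≠ D.B ∧ D.A ≠ D.c ∧ D.B ≠ D.c)
    (hA : ¬ 7 ∣ D.A) (hB : ¬ 7 ∣ D.B) (hA1 : D.A ≠ 1) (hB1 : D.B ≠ 1) :
    ∀ ψ : IrrCharacter G, charDegree (ψ : G → ℂ) = charDegree (χ : G → ℂ) → ψ = χ := by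
  intro ψ hψ
  have h1deg : charDegree (oneChar G : G → ℂ) = 1 := charDegree_eq_of_map_one (by rw [oneChar_apply, Nat.cast_one])
  by_cases hm : ψ ∈ [oneChar G, D.χA, D.χB, D.θ, D.θ']
  · simp only [List.mem_cons, List.not_mem_nil, or_false] at hm
    rcases hχ with rfl | rfl <;> rcases hm with rfl | rfl | rfl | rfl | rfl <;>
      simp only [h1deg, D.degA, D.degB, D.degθ, D.degθ'] at hψ <;> first | rfl | omega
  · exfalso
    have h7 := (D.out ψ hm).1
    rcases hχ with rfl | rfl <;> simp only [D.degA, D.degB] at hψ <;> omega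

theorem involution_data {t : G} (ht : orderOf t = 2) (hc3 : D.c ≠ 3) :
    (D.A = 15 ∧ D.B = 6 ∧ D.c = 10) ∧ (D.χA : G → ℂ) t = -1 ∧ ((D.χB : G → ℂ) t = 2 ∨ (D.χB : G → ℂ) t = -2) ∧
      Nat.card (centralizer ({t} : Set G)) = 24 := by
  classical
  have hc := not_comm_2520 h
  obtain ⟨a, ha⟩ := CfsgLib.Blocks.AbelianFrobenius.exists_int_apply_two D.χA ht
  obtain ⟨b, hb⟩ := CfsgLib.Blocks.AbelianFrobenius.exists_int_apply_two D.χB ht
  obtain ⟨hA1, hB1, hθ1⟩ := D.ne_one
  have ht1 : t ≠ 1 := fun e => by rw [e, orderOf_one] at ht; norm_num at ht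
  set y := D.ε * (1 + D.sA * a + D.sB * b) with hy
  have hθ : (D.θ : G → ℂ) t = (y : ℂ) ∧ (D.θ' : G → ℂ) t = (y : ℂ) := by
    obtain ⟨h1, h2⟩ := D.rel t (by rw [ht]; norm_num)
    rw [ha, hb] at h1
    refine ⟨by rw [h1, hy]; push_cast; ring, by rw [h2, h1, hy]; push_cast; ring⟩
  have d1 := D.degA ▸ four_dvd_sub_of_involution hc D.χA ht ha
  have d2 := D.degB ▸ four_dvd_sub_of_involution hc D.χB ht hb
  have d3 := D.degθ ▸ four_dvd_sub_of_involution hc D.θ ht hθ.1
  have l1 := D.degA ▸ natAbs_lt_degree hc hA1 ht1 ha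
  have l2 := D.degB ▸ natAbs_lt_degree hc hB1 ht1 hb
  have l3 := D.degθ ▸ natAbs_lt_degree hc hθ1 ht1 hθ.1
  have o1 := D.degA ▸ degree_dvd_index_mul D.χA ha
  have o2 := D.degB ▸ degree_dvd_index_mul D.χB hb
  have o3 := D.degθ ▸ degree_dvd_index_mul D.θ hθ.1
  set C := centralizer ({t} : Set G) with hC
  have hCi : C.index = 2520 / Nat.card C := by
    rw [← h, ← C.card_mul_index, Nat.mul_div_cancel_left _ Nat.card_pos]
  rw [hCi] at o1 o2 o3
  have h7C : ¬ Nat.card C % 7 = 0 := by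
    intro h7
    haveI : Fact (Nat.Prime 7) := ⟨by norm_num⟩
    obtain ⟨⟨g, hgC⟩, hg⟩ := exists_prime_orderOf_dvd_card' (G := C) 7 (Nat.dvd_of_mod_eq_zero h7)
    rw [orderOf_mk] at hg
    have hmem : t ∈ centralizer ({g} : Set G) :=
      mem_centralizer_singleton_iff.mpr (mem_centralizer_singleton_iff.mp hgC).symm
    have := Subgroup.orderOf_dvd_natCard _ hmem
    rw [centralizer_seven h hg, ht] at this
    norm_num at this
  have hC2 : Nat.card C % 2 = 0 := Nat.mod_eq_zero_of_dvd (by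
    rw [← ht]; exact Subgroup.orderOf_dvd_natCard (s := C) (mem_centralizer_singleton_iff.mpr rfl))
  have hcol : 1 + a * a + b * b + 2 * y * y ≤ (Nat.card C : ℤ) := by
    have h1 := sum_irr_mul_conj t t
    rw [if_pos (IsConj.refl t)] at h1
    have h2 : ∑ ψ : IrrCharacter G, Complex.normSq ((ψ : G → ℂ) t) = (Nat.card C : ℝ) := by
      apply Complex.ofReal_injective
      rw [Complex.ofReal_sum, Complex.ofReal_natCast, hC, ← h1]
      exact Finset.sum_congr rfl fun ψ _ => (Complex.mul_conj _).symm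
    have h3 := Finset.sum_le_sum_of_subset_of_nonneg (f := fun ψ : IrrCharacter G => Complex.normSq ((ψ : G → ℂ) t))
      (Finset.subset_univ [oneChar G, D.χA, D.χB, D.θ, D.θ'].toFinset) (fun ψ _ _ => Complex.normSq_nonneg _)
    rw [h2, List.sum_toFinset _ D.nodup] at h3
    simp only [List.map_cons, List.map_nil, List.sum_cons, List.sum_nil, oneChar_apply, ha, hb, hθ.1, hθ.2,
      map_one, Complex.normSq_intCast] at h3
    have h4 : ((1 + a * a + b * b + 2 * y * y : ℤ) : ℝ) ≤ ((Nat.card C : ℤ) : ℝ) := by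
      push_cast at h3 ⊢
      linarith
    exact_mod_cast h4
  have hzero : (D.A : ℤ) * D.B * D.c + D.sA * a * a * (D.B * D.c : ℕ) + D.sB * b * b * (D.A * D.c : ℕ) -
      D.ε * y * y * (D.A * D.B : ℕ) = 0 := by
    have htt : t⁻¹ = t := inv_eq_of_mul_eq_one_right (by rw [← pow_two, ← ht, pow_orderOf_eq_one])
    have hno : IsEmpty {b : G // IsConj (t * (b * t * b⁻¹)) D.u} := by
      refine ⟨fun ⟨b, hb⟩ => ?_⟩
      set w := t * (b * t * b⁻¹) with hw
      have hw7 : orderOf w = 7 := by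
        obtain ⟨d, hd⟩ := isConj_iff.mp hb
        rw [← D.hu, ← hd]
        exact (orderOf_injective (MulAut.conj d).toMonoidHom (MulAut.conj d).injective w).symm
      haveI : Fact (Nat.Prime 7) := ⟨by norm_num⟩
      obtain ⟨R, hR⟩ := exists_zpowers_eq_sylow (seven_local h) hw7
      have hbb : b * t * b⁻¹ * (b * t * b⁻¹) = 1 := by
        rw [show b * t * b⁻¹ * (b * t * b⁻¹) = b * (t * t) * b⁻¹ by group, ← pow_two, ← ht, pow_orderOf_eq_one]
        group
      have hinv : t * w * t⁻¹ = w⁻¹ := by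
        rw [hw, mul_inv_rev, htt, inv_eq_of_mul_eq_one_right hbb, ← mul_assoc, ← pow_two, ← ht, pow_orderOf_eq_one,
          one_mul]
      have htN : t ∈ normalizer ((R : Subgroup G) : Set G) := by
        rw [hR, mem_normalizer_iff]
        intro x
        constructor
        · intro hx
          obtain ⟨i, rfl⟩ := mem_zpowers_iff.mp hx
          rw [← conj_zpow, hinv]
          exact zpow_mem (inv_mem (mem_zpowers w)) i
        · intro hx
          obtain ⟨i, hi⟩ := mem_zpowers_iff.mp hx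
          have hx' : x = t⁻¹ * w ^ i * t := by rw [hi]; group
          rw [hx', show t⁻¹ * w ^ i * t = t * w ^ i * t⁻¹ by rw [htt], ← conj_zpow, hinv]
          exact zpow_mem (inv_mem (mem_zpowers w)) i
      have hN := card_normalizer_mul R
      rw [(seven_local h).1, h] at hN
      have := Subgroup.orderOf_dvd_natCard _ htN
      rw [ht, show Nat.card (normalizer ((R : Subgroup G) : Set G)) = 21 by omega] at this
      norm_num at this
    have h1 := CfsgLib.M11Order.sum_triple t t D.u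
    rw [Nat.card_eq_zero.mpr (.inl hno), Nat.cast_zero, mul_zero,
      D.sum_eq _ (fun χ hχ => by rw [(D.out χ hχ).2 D.u D.hu, map_zero, mul_zero, zero_div])] at h1
    rw [← coe_charDegree, ← coe_charDegree, ← coe_charDegree, ← coe_charDegree, ← coe_charDegree, D.degA, D.degB,
      D.degθ, D.degθ', charDegree_eq_of_map_one (χ := (oneChar G : G → ℂ)) (n := 1) (by rw [oneChar_apply, Nat.cast_one]),
      oneChar_apply, oneChar_apply, ha, hb, hθ.1, hθ.2, D.valA, D.valB, map_one, map_intCast, map_intCast] at h1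
    have h2 := (mul_eq_zero.mp h1).resolve_left (by rw [h]; norm_num)
    have hval : conj ((D.θ : G → ℂ) D.u) + conj ((D.θ' : G → ℂ) D.u) = -(D.ε : ℂ) := by
      rw [← map_add, D.valθ, map_neg, map_intCast]
    have hA0 : (D.A : ℂ) ≠ 0 := by rw [← D.degA]; exact_mod_cast (charDegree_pos D.χA).ne'
    have hB0 : (D.B : ℂ) ≠ 0 := by rw [← D.degB]; exact_mod_cast (charDegree_pos D.χB).ne'
    have hc0 : (D.c : ℂ) ≠ 0 := by rw [← D.degθ]; exact_mod_cast (charDegree_pos D.θ).ne'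
    have h3 : (((D.A : ℤ) * D.B * D.c + D.sA * a * a * (D.B * D.c : ℕ) + D.sB * b * b * (D.A * D.c : ℕ) -
        D.ε * y * y * (D.A * D.B : ℕ) : ℤ) : ℂ) = 0 := by
      push_cast
      field_simp at h2
      linear_combination h2 - (y : ℂ) * (y : ℂ) * (D.A : ℂ) * (D.B : ℂ) * hval
    exact_mod_cast h3
  -- the finite check
  have hmem : Nat.card C ∈ ((List.range 64).filterMap fun k => if 2520 % (k + 1) = 0 then some (k + 1) else none) ++
        ((List.range 40).filterMap fun k => if 2520 % (k + 1) = 0 then some (2520 / (k + 1)) else none) := by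
    have hd : Nat.card C ∣ 2520 := h ▸ card_subgroup_dvd_card C
    have key : ∀ d ∈ Nat.divisors 2520, d ∈ ((List.range 64).filterMap fun k => if 2520 % (k + 1) = 0 then some (k + 1) else none) ++
        ((List.range 40).filterMap fun k => if 2520 % (k + 1) = 0 then some (2520 / (k + 1)) else none) := by
      decide +kernel
    exact key _ (Nat.mem_divisors.mpr ⟨hd, by norm_num⟩)
  have htup := D.mem
  have hbound : D.A ≤ 15 ∧ D.B ≤ 20 := by
    revert htup
    generalize D.A = A, D.sA = sA, D.B = B, D.sB = sB, D.c = c, D.ε = ε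
    intro htup
    simp only [tuples, List.mem_cons, Prod.mk.injEq, List.not_mem_nil, or_false] at htup
    omega
  obtain ⟨i, hi, hia⟩ : ∃ i : ℕ, i < 41 ∧ (i : ℤ) - 20 = a := ⟨(a + 20).toNat, by omega, by omega⟩
  obtain ⟨j, hj, hjb⟩ : ∃ j : ℕ, j < 41 ∧ (j : ℤ) - 20 = b := ⟨(b + 20).toNat, by omega, by omega⟩
  have hk := List.all_eq_true.mp (List.all_eq_true.mp (List.all_eq_true.mp checkTwo_all _ htup) i (List.mem_range.mpr hi))
    j (List.mem_range.mpr hj)
  rw [hia, hjb, Bool.or_eq_true, Bool.not_eq_true', Bool.and_eq_false_iff, decide_eq_false_iff_not,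
    decide_eq_false_iff_not] at hk
  rcases hk with (hk | hk) | hk
  · exact absurd l1 hk
  · exact absurd l2 hk
  have hk' := List.all_eq_true.mp hk _ hmem
  simp only [checkTwo, Bool.or_eq_true, Bool.and_eq_true, Bool.not_eq_true', Bool.and_eq_false_iff, beq_iff_eq,
    beq_eq_false_iff_ne, decide_eq_false_iff_not, ← hy] at hk'
  simp only [or_assoc] at hk'
  rcases hk' with hk' | hk' | hk' | hk' | hk' | hk' | hk' | hk' | hk' | hk' | hk' | hk' | ⟨⟨⟨⟨⟨e1, e2⟩, e3⟩, e4⟩, e5⟩, e6⟩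
  all_goals try (exfalso; first
      | exact hk' (Int.emod_eq_zero_of_dvd d1)
      | exact hk' (Int.emod_eq_zero_of_dvd d2)
      | exact hk' (Int.emod_eq_zero_of_dvd d3)
      | exact hk' l3
      | exact hk' hzero
      | exact hk' hC2
      | exact h7C (by simpa using hk')
      | exact hk' hcol
      | exact hk' (Int.emod_eq_zero_of_dvd o1)
      | exact hk' (Int.emod_eq_zero_of_dvd o2)
      | exact hk' (Int.emod_eq_zero_of_dvd o3)
      | exact hc3 hk')
  refine ⟨⟨e1, e2, e3⟩, by rw [ha, e4]; norm_num, ?_, e6⟩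
  rcases e5 with e | e <;> rw [hb, e] <;> norm_num

theorem c_ne_three : D.c ≠ 3 := by
  classical
  intro hc3
  have hc := not_comm_2520 h
  have htup := D.mem
  have hAB : D.A = 8 ∧ D.sA = 1 ∧ D.B = 6 ∧ D.sB = -1 ∧ D.ε = 1 := by
    simp only [tuples, List.mem_cons, Prod.mk.injEq, List.not_mem_nil, or_false, hc3] at htup
    norm_num at htup
    obtain ⟨a, b, c, d, e⟩ := htup
    exact ⟨a, b, c, d, e⟩
  obtain ⟨hA, hsA, hB, hsB, hε⟩ := hAB
  haveI : Fact (Nat.Prime 5) := ⟨by norm_num⟩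
  obtain ⟨y, hy⟩ := exists_prime_orderOf_dvd_card' (G := G) 5 (by rw [h]; norm_num)
  have hne : D.A ≠ D.B ∧ D.A ≠ D.c ∧ D.B ≠ D.c := by omega
  have hpow : ∀ i, ∃ m : ℤ, (D.θ : G → ℂ) (y ^ i) = m := by
    intro i
    obtain ⟨a, ha⟩ := exists_int_of_unique D.χA (D.unique_degree (.inl rfl) hne (by omega) (by omega) (by omega) (by omega)) (y ^ i)
    obtain ⟨b, hb⟩ := exists_int_of_unique D.χB (D.unique_degree (.inr rfl) hne (by omega) (by omega) (by omega) (by omega)) (y ^ i)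
    have h7 : ¬ 7 ∣ orderOf (y ^ i) := fun hd => by
      have := hd.trans (orderOf_pow_dvd i)
      rw [hy] at this
      norm_num at this
    refine ⟨1 + a - b, ?_⟩
    rw [(D.rel _ h7).1, ha, hb, hsA, hsB, hε]
    push_cast; ring
  obtain ⟨m, hm⟩ := CfsgLib.M11Order.exists_sum_zpowers (by norm_num : Nat.Prime 5) D.θ hy
  choose f hf using hpow
  have hy1 : ∀ i ∈ Finset.range 5, i ≠ 0 → y ^ i ≠ 1 := fun i hi h0 e => by
    have := orderOf_dvd_of_pow_eq_one e
    rw [hy] at this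
    have := Nat.le_of_dvd (Nat.pos_of_ne_zero h0) this
    have := Finset.mem_range.mp hi
    omega
  have hlt : ∀ i ∈ Finset.range 5, i ≠ 0 → (f i).natAbs < 3 := fun i hi h0 => by
    have := natAbs_lt_degree hc D.ne_one.2.2 (hy1 i hi h0) (hf i)
    rwa [D.degθ, hc3] at this
  -- the values on the powers are equal
  have hgal : ∀ i ∈ Finset.range 5, i ≠ 0 → f i = f 1 := by
    intro i hi h0
    obtain ⟨k, hk, hki⟩ : ∃ k : ℕ, k.Coprime (Nat.card G) ∧ k % 5 = i := by
      rw [h]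
      have key : ∀ i ∈ Finset.range 5, i ≠ 0 → ∃ k ∈ [1, 17, 13, 19], k.Coprime 2520 ∧ k % 5 = i := by decide +kernel
      obtain ⟨k, -, hk⟩ := key i hi h0
      exact ⟨k, hk⟩
    obtain ⟨σ, hσ⟩ := CfsgLib.GaloisHom.exists_ringHom_char (Nat.card_pos (α := G)) hk
    have h1 := hσ (isCharacter_coe D.θ) (y ^ 1) (orderOf_dvd_natCard _)
    rw [hf 1, map_intCast, pow_one, ← pow_mod_orderOf, hy, hki, hf i] at h1
    exact_mod_cast h1.symm
  have hsum : ∑ i ∈ Finset.range 5, (D.θ : G → ℂ) (y ^ i) = 3 + 4 * (f 1 : ℂ) := by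
    simp only [Finset.sum_range_succ, Finset.sum_range_zero, pow_zero, ← coe_charDegree, D.degθ, hc3, zero_add,
      hf 1, hf 2, hf 3, hf 4, hgal 2 (by decide) (by decide), hgal 3 (by decide) (by decide), hgal 4 (by decide) (by decide)]
    push_cast; ring
  rw [hsum] at hm
  have hm' : 3 + 4 * f 1 = 5 * (m : ℤ) := by exact_mod_cast hm
  have := hlt 1 (by decide) (by decide)
  omega

theorem data : D.A = 15 ∧ D.B = 6 ∧ D.c = 10 ∧ D.sA = 1 ∧ D.sB = -1 ∧ D.ε = 1 := by
  haveI : Fact (Nat.Prime 2) := ⟨Nat.prime_two⟩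
  obtain ⟨t, ht⟩ := exists_prime_orderOf_dvd_card' (G := G) 2 (by rw [h]; norm_num)
  obtain ⟨⟨e1, e2, e3⟩, -⟩ := D.involution_data h ht (D.c_ne_three h)
  have htup := D.mem
  simp only [tuples, List.mem_cons, Prod.mk.injEq, List.not_mem_nil, or_false, e1, e2, e3] at htup
  norm_num at htup
  exact ⟨e1, e2, e3, htup.1, htup.2.1, htup.2.2⟩

end BlockSeven

end CfsgLib.A7Order
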