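import Cfsg.Agent.A7Order.Seven
import Mathlib

/-!
# The character table facts of a simple group of order 2520
-/

set_option autoImplicit false
set_option linter.style.haveILetI false

namespace CfsgLib.A7Order

open Cfsg CfsgLib.Chars CfsgLib.SylowToolkit CfsgLib.Sieve.PrimeLocal Subgroup
open scoped ComplexConjugate

universe u

/-- The degrees. -/
def degs : Fin 9 → ℕ := ![1, 15, 6, 10, 10, 14, 14, 21, 35]

/-- What we know of the character table. -/
structure Table (G : Type u) [Group G] [Fintype G] where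
  χ : Fin 9 → IrrCharacter G
  bij : Function.Bijective χ
  deg : ∀ i, charDegree (χ i : G → ℂ) = degs i
  one : χ 0 = oneChar G
  u : G
  hu : orderOf u = 7
  val₁ : (χ 1 : G → ℂ) u = 1
  val₂ : (χ 2 : G → ℂ) u = -1
  val₃ : (χ 3 : G → ℂ) u + (χ 4 : G → ℂ) u = -1
  out : ∀ i : Fin 9, 5 ≤ (i : ℕ) → ∀ g : G, orderOf g = 7 → (χ i : G → ℂ) g = 0
  rel7 : ∀ g : G, ¬ 7 ∣ orderOf g →
    (χ 3 : G → ℂ) g = 1 + (χ 1 : G → ℂ) g - (χ 2 : G → ℂ) g ∧ (χ 4 : G → ℂ) g = (χ 3 : G → ℂ) g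
  rel5 : ∀ g : G, ¬ 5 ∣ orderOf g →
    1 + (χ 2 : G → ℂ) g - (χ 5 : G → ℂ) g - (χ 6 : G → ℂ) g + (χ 7 : G → ℂ) g = 0

theorem key_outside : ∀ d ∈ Nat.divisors 2520, d % 7 = 0 → d * d ≤ 2058 →
    d % 5 = 1 ∨ d % 5 = 4 ∨ d % 5 = 0 → (d % 5 = 0 → d = 35) ∧ (d % 5 ≠ 0 → d = 14 ∨ d = 21) := by
  decide +kernel

section
variable {G : Type u} [Group G] [Fintype G]

/-- A centralizer acts freely on the solutions of a class equation. -/
theorem card_centralizer_dvd_solutions (g h u : G) :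
    Nat.card (centralizer ({g} : Set G)) ∣ Nat.card {b : G // IsConj (g * (b * h * b⁻¹)) u} := by
  classical
  set C := centralizer ({g} : Set G) with hC
  let act : MulAction C {b : G // IsConj (g * (b * h * b⁻¹)) u} :=
    { smul := fun c b => ⟨(c : G) * b.1, by
        have hct : (c : G) * g = g * c := mem_centralizer_singleton_iff.mp c.2
        refine IsConj.trans ?_ b.2
        refine isConj_iff.mpr ⟨(c : G)⁻¹, ?_⟩
        calc (c : G)⁻¹ * (g * ((c : G) * b.1 * h * ((c : G) * b.1)⁻¹)) * (c : G)⁻¹⁻¹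
            = (c : G)⁻¹ * (g * c) * (b.1 * h * b.1⁻¹) := by group
          _ = g * (b.1 * h * b.1⁻¹) := by rw [← hct]; group⟩
      one_smul := fun b => Subtype.ext (one_mul b.1)
      mul_smul := fun c d b => Subtype.ext (mul_assoc (c : G) d b.1) }
  letI := act
  have hfree : ∀ b : {b : G // IsConj (g * (b * h * b⁻¹)) u}, MulAction.stabilizer C b = ⊥ := by
    intro b
    refine (eq_bot_iff_forall _).mpr fun c hc' => Subtype.ext ?_
    have e : (c : G) * b.1 = b.1 := congrArg Subtype.val hc'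
    exact mul_eq_right.mp e
  refine ⟨Nat.card (Quotient (MulAction.orbitRel C {b : G // IsConj (g * (b * h * b⁻¹)) u})), ?_⟩
  rw [Nat.card_congr (MulAction.selfEquivSigmaOrbits C {b : G // IsConj (g * (b * h * b⁻¹)) u})]
  haveI := Fintype.ofFinite (Quotient (MulAction.orbitRel C {b : G // IsConj (g * (b * h * b⁻¹)) u}))
  rw [Nat.card_sigma, Finset.sum_congr rfl (g := fun _ => Nat.card C), Finset.sum_const, Finset.card_univ,
    smul_eq_mul, ← Nat.card_eq_fintype_card, mul_comm]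
  intro q _
  rw [Nat.card_congr (MulAction.orbitEquivQuotientStabilizer C q.out), hfree, ← Subgroup.index, index_bot]

variable [IsSimpleGroup G] (h : Nat.card G = 2520)

include h

theorem five_local : HasLocal G 5 126 1 := by
  classical
  haveI : Fact (Nat.Prime 5) := ⟨by norm_num⟩
  haveI : Fact (Nat.Prime 7) := ⟨by norm_num⟩
  haveI : Fact (Nat.Prime 2) := ⟨Nat.prime_two⟩
  obtain ⟨o, ho, L⟩ := exists_option (not_comm_2520 h) (by rw [h]; norm_num) 5 504 (by rw [h]) (by norm_num)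
  have key : ∀ o ∈ options 5 504, (o.1 = 126 ∧ o.2.2 = 1) ∨ 2 ∣ o.2.2 ∨ 7 ∣ o.2.2 := by decide +kernel
  rcases key o ho with ⟨e, e'⟩ | e | e
  · rw [e, e'] at L; exact L
  · exfalso
    obtain ⟨P⟩ := (inferInstance : Nonempty (Sylow 5 G))
    obtain ⟨⟨z, hzC⟩, hz⟩ := exists_prime_orderOf_dvd_card' (G := centralizer ((P : Subgroup G) : Set G)) 2
      (by rw [(L.2 P).2]; exact e.trans (dvd_mul_left _ _))
    rw [orderOf_mk] at hz
    obtain ⟨D⟩ := exists_blockSeven h
    have hle : (P : Subgroup G) ≤ centralizer ({z} : Set G) := fun x hx =>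
      mem_centralizer_singleton_iff.mpr (mem_centralizer_iff.mp hzC x hx)
    have hd := card_dvd_of_le hle
    rw [(L.2 P).1, (D.involution_data h hz (D.c_ne_three h)).2.2.2] at hd
    norm_num at hd
  · exfalso
    have := dvd_of_dvd L (seven_local h) (by norm_num) e
    norm_num at this

theorem centralizer_five {g : G} (hg : orderOf g = 5) : Nat.card (centralizer ({g} : Set G)) = 5 := by
  haveI : Fact (Nat.Prime 5) := ⟨by norm_num⟩
  obtain ⟨R, hR⟩ := exists_zpowers_eq_sylow (five_local h) hg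
  rw [← CfsgLib.M11Order.centralizer_zpowers, ← hR, ((five_local h).2 R).2]

set_option maxHeartbeats 1000000 in
theorem exists_table : Nonempty (Table G) := by
  classical
  haveI h5 : Fact (Nat.Prime 5) := ⟨by norm_num⟩
  have hc := not_comm_2520 h
  obtain ⟨D⟩ := exists_blockSeven h
  obtain ⟨hA, hB, hcc, hsA, hsB, hε⟩ := D.data h
  obtain ⟨P⟩ := (inferInstance : Nonempty (Sylow 5 G))
  obtain ⟨hP, hCP⟩ := (five_local h).2 P
  obtain ⟨y, hy, hz, hidx⟩ := CfsgLib.Blocks.OrderP.exists_generator_sylow P hP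
  have he : (centralizer (zpowers y : Set G)).relIndex (normalizer (zpowers y : Set G)) = 4 := by
    rw [hz]
    have h1 := CfsgLib.PrimeGram.relIndex_mul_centralizer (P : Subgroup G)
    have h2 := card_normalizer_mul P
    rw [(five_local h).1, h] at h2
    rw [hCP] at h1
    omega
  obtain ⟨M, hM⟩ := CfsgLib.Blocks.exists_isPModular 5 (by norm_num)
  haveI := CfsgLib.Blocks.isMaximal_of_isPModular hM
  obtain ⟨X, Y, hd, hBl, hX, hY, εX, ε, hεs, hXp, hYp, hrel⟩ :=
    CfsgLib.Blocks.OrderP.principal_block_structure hM hy hidx he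
  obtain ⟨η, hηY⟩ := Finset.card_eq_one.mp (show Y.card = 1 by rw [hY])
  set Z := X ∪ Y with hZ
  let s : IrrCharacter G → ℤ := fun ψ => if ψ ∈ X then εX ψ else -ε
  have hs : ∀ ψ ∈ Z, (s ψ = 1 ∨ s ψ = -1) ∧ (charDegree (ψ : G → ℂ) : ℤ) ≡ s ψ [ZMOD 5] := by
    intro ψ hψ
    by_cases hm : ψ ∈ X
    · simp only [s, if_pos hm]
      exact ⟨(hXp ψ hm).1, (hXp ψ hm).2.1⟩
    · simp only [s, if_neg hm]
      have hcong := hYp ψ ((Finset.mem_union.mp hψ).resolve_left hm)
      refine ⟨by rcases hεs with e | e <;> simp [e], ?_⟩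
      refine hcong.trans ?_
      rcases hεs with e | e <;> rw [e] <;> decide
  have hrelZ : ∀ g : G, ¬ 5 ∣ orderOf g → ∑ ψ ∈ Z, (s ψ : ℂ) * (ψ : G → ℂ) g = 0 := by
    intro g hg
    have hη : η ∈ Y := by rw [hηY]; simp
    have h1 := hrel η hη g hg
    rw [hZ, Finset.sum_union hd, hηY, Finset.sum_singleton,
      Finset.sum_congr rfl (s₁ := X) (g := fun ψ => (εX ψ : ℂ) * (ψ : G → ℂ) g) fun ψ hψ => by simp [s, hψ]]
    have hηX : η ∉ X := fun hm => Finset.disjoint_left.mp hd hm hη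
    simp only [s, if_neg hηX, ← h1]
    push_cast; ring
  have hZc : Z.card = 5 := by rw [hZ, Finset.card_union_of_disjoint hd, hX, hY]
  have hout5 : ∀ ψ, ψ ∉ Z → 5 ∣ charDegree (ψ : G → ℂ) := fun ψ hψ =>
    (CfsgLib.M11Order.outside_block hM hy hidx (centralizer_five h hy) fun hm =>
      hψ (Finset.mem_union.mpr ((hBl ψ).mp hm))).1
  have hmodZ : ∀ ψ ∈ Z, charDegree (ψ : G → ℂ) % 5 = 1 ∨ charDegree (ψ : G → ℂ) % 5 = 4 := by
    intro ψ hψ
    obtain ⟨hs1, hs2⟩ := hs ψ hψ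
    unfold Int.ModEq at hs2
    rcases hs1 with e | e <;> rw [e] at hs2 <;> omega
  have h1deg : charDegree (oneChar G : G → ℂ) = 1 := charDegree_eq_of_map_one (by rw [oneChar_apply, Nat.cast_one])
  set F := [oneChar G, D.χA, D.χB, D.θ, D.θ'].toFinset with hF
  have hFmem : ∀ ψ, ψ ∈ F ↔ ψ = oneChar G ∨ ψ = D.χA ∨ ψ = D.χB ∨ ψ = D.θ ∨ ψ = D.θ' := fun ψ => by simp [hF]
  have hdegA : charDegree (D.χA : G → ℂ) = 15 := D.degA.trans hA
  have hdegB : charDegree (D.χB : G → ℂ) = 6 := D.degB.trans hB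
  have hdegθ : charDegree (D.θ : G → ℂ) = 10 := D.degθ.trans hcc
  have hdegθ' : charDegree (D.θ' : G → ℂ) = 10 := D.degθ'.trans hcc
  have hFZ : ∀ ψ ∈ F, (ψ ∈ Z ↔ ψ = oneChar G ∨ ψ = D.χB) := by
    intro ψ hψ
    constructor
    · intro hm
      have := hmodZ ψ hm
      rcases (hFmem ψ).mp hψ with e | e | e | e | e
      · exact .inl e
      · rw [e, hdegA] at this; norm_num at this
      · exact .inr e
      · rw [e, hdegθ] at this; norm_num at this
      · rw [e, hdegθ'] at this; norm_num at this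
    · rintro (rfl | rfl) <;> by_contra hn <;> have := hout5 _ hn
      · rw [h1deg] at this; norm_num at this
      · rw [hdegB] at this; norm_num at this
  set R := Z \ F with hR
  have hRc : R.card = 3 := by
    have h1 : Z ∩ F = {oneChar G, D.χB} := by
      ext ψ
      simp only [Finset.mem_inter, Finset.mem_insert, Finset.mem_singleton]
      constructor
      · exact fun h => (hFZ ψ h.2).mp h.1
      · intro h
        have hψ : ψ ∈ F := (hFmem ψ).mpr (by rcases h with e | e <;> simp [e])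
        exact ⟨(hFZ ψ hψ).mpr h, hψ⟩
    have h2 := Finset.card_sdiff_add_card_inter Z F
    rw [← hR, h1, hZc, Finset.card_pair D.ne_one.2.1.symm] at h2
    omega
  set W := (Finset.univ : Finset (IrrCharacter G)) \ (F ∪ R) with hW
  have hFsum : ∑ ψ ∈ F, charDegree (ψ : G → ℂ) ^ 2 = 462 := by
    rw [hF, List.sum_toFinset _ D.nodup]
    simp [h1deg, hdegA, hdegB, hdegθ, hdegθ']
  have hdFR : Disjoint F R := Finset.disjoint_sdiff
  have htot : ∑ ψ ∈ R, charDegree (ψ : G → ℂ) ^ 2 + ∑ ψ ∈ W, charDegree (ψ : G → ℂ) ^ 2 = 2058 := by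
    have h1 := sum_charDegree_sq (G := G)
    rw [h, ← Finset.sum_sdiff (Finset.subset_univ (F ∪ R)), ← hW, Finset.sum_union hdFR, hFsum] at h1
    omega
  have hfact : ∀ ψ, ψ ∉ F → charDegree (ψ : G → ℂ) ^ 2 ≤ 2058 → (ψ ∈ R → charDegree (ψ : G → ℂ) = 14 ∨ charDegree (ψ : G → ℂ) = 21) ∧
      (ψ ∉ R → charDegree (ψ : G → ℂ) = 35) := by
    intro ψ hψ hle
    have h7 := (D.out ψ fun hm => hψ ((hFmem ψ).mpr (by simpa using hm))).1
    have hk := key_outside (charDegree (ψ : G → ℂ)) (Nat.mem_divisors.mpr ⟨h ▸ charDegree_dvd_card ψ, by norm_num⟩)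
      (Nat.mod_eq_zero_of_dvd h7) (by rwa [← sq])
    refine ⟨fun hm => ?_, fun hm => ?_⟩
    · have hm5 := hmodZ ψ (Finset.mem_sdiff.mp hm).1
      exact (hk (by omega)).2 (by omega)
    · have h5' := hout5 ψ fun hz => hm (Finset.mem_sdiff.mpr ⟨hz, hψ⟩)
      exact (hk (by omega)).1 (by omega)
  have hRdeg : ∀ ψ ∈ R, charDegree (ψ : G → ℂ) = 14 ∨ charDegree (ψ : G → ℂ) = 21 := fun ψ hψ =>
    (hfact ψ (Finset.mem_sdiff.mp hψ).2 (by
      have := Finset.single_le_sum (f := fun ψ : IrrCharacter G => charDegree (ψ : G → ℂ) ^ 2) (fun _ _ => Nat.zero_le _) hψ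
      omega)).1 hψ
  have hWdeg : ∀ ψ ∈ W, charDegree (ψ : G → ℂ) = 35 := fun ψ hψ => by
    have hn := (Finset.mem_sdiff.mp hψ).2
    simp only [Finset.mem_union, not_or] at hn
    refine (hfact ψ hn.1 ?_).2 hn.2
    have := Finset.single_le_sum (f := fun ψ : IrrCharacter G => charDegree (ψ : G → ℂ) ^ 2) (fun _ _ => Nat.zero_le _) hψ
    omega
  set S14 := R.filter fun ψ : IrrCharacter G => charDegree (ψ : G → ℂ) = 14 with hS14
  set S21 := R.filter fun ψ : IrrCharacter G => ¬ charDegree (ψ : G → ℂ) = 14 with hS21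
  have hcnt : S14.card + S21.card = 3 := by rw [hS14, hS21, Finset.card_filter_add_card_filter_not, hRc]
  have h21 : ∀ ψ ∈ S21, charDegree (ψ : G → ℂ) = 21 := fun ψ hψ =>
    (hRdeg ψ (Finset.mem_filter.mp hψ).1).resolve_left (Finset.mem_filter.mp hψ).2
  have hsumR : 196 * S14.card + 441 * S21.card + 1225 * W.card = 2058 := by
    rw [← htot, ← Finset.sum_filter_add_sum_filter_not R (fun ψ : IrrCharacter G => charDegree (ψ : G → ℂ) = 14),
      ← hS14, ← hS21, Finset.sum_congr rfl (s₁ := S14) (g := fun _ => 196) (fun ψ hψ => by rw [(Finset.mem_filter.mp hψ).2]; norm_num),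
      Finset.sum_congr rfl (s₁ := S21) (g := fun _ => 441) (fun ψ hψ => by rw [h21 ψ hψ]; norm_num),
      Finset.sum_congr rfl (s₁ := W) (g := fun _ => 1225) (fun ψ hψ => by rw [hWdeg ψ hψ]; norm_num)]
    simp only [Finset.sum_const, smul_eq_mul]
    ring
  obtain ⟨p, p', hpne, hpeq⟩ := Finset.card_eq_two.mp (show S14.card = 2 by omega)
  obtain ⟨q, hqeq⟩ := Finset.card_eq_one.mp (show S21.card = 1 by omega)
  obtain ⟨w, hweq⟩ := Finset.card_eq_one.mp (show W.card = 1 by omega)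
  have hpm : p ∈ S14 := by rw [hpeq]; simp
  have hpm' : p' ∈ S14 := by rw [hpeq]; simp
  have hqm : q ∈ S21 := by rw [hqeq]; simp
  have hwm : w ∈ W := by rw [hweq]; simp
  have hdp := (Finset.mem_filter.mp hpm).2
  have hdp' := (Finset.mem_filter.mp hpm').2
  have hdq := h21 q hqm
  have hdw := hWdeg w hwm
  set χ : Fin 9 → IrrCharacter G := ![oneChar G, D.χA, D.χB, D.θ, D.θ', p, p', q, w] with hχ
  have hdeg : ∀ i, charDegree (χ i : G → ℂ) = degs i := by
    intro i
    fin_cases i <;> simp [χ, degs, h1deg, hdegA, hdegB, hdegθ, hdegθ', hdp, hdp', hdq, hdw]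
  have hbij : Function.Bijective χ := by
    refine ⟨fun i j e => ?_, fun ψ => ?_⟩
    · have hdd := congrArg (fun ψ : IrrCharacter G => charDegree (ψ : G → ℂ)) e
      simp only [hdeg] at hdd
      have key : ∀ i j : Fin 9, degs i = degs j → i = j ∨ (i = 3 ∧ j = 4) ∨ (i = 4 ∧ j = 3) ∨ (i = 5 ∧ j = 6) ∨ (i = 6 ∧ j = 5) := by
        decide +kernel
      have hnd := D.nodup
      simp only [List.nodup_cons, List.mem_cons, List.not_mem_nil, not_or] at hnd
      rcases key i j hdd with e' | ⟨rfl, rfl⟩ | ⟨rfl, rfl⟩ | ⟨rfl, rfl⟩ | ⟨rfl, rfl⟩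
      · exact e'
      · exact absurd e hnd.2.2.2.1.1
      · exact absurd e.symm hnd.2.2.2.1.1
      · exact absurd e hpne
      · exact absurd e.symm hpne
    · by_cases hψF : ψ ∈ F
      · rcases (hFmem ψ).mp hψF with e | e | e | e | e
        exacts [⟨0, e.symm⟩, ⟨1, e.symm⟩, ⟨2, e.symm⟩, ⟨3, e.symm⟩, ⟨4, e.symm⟩]
      by_cases hψR : ψ ∈ R
      · by_cases h14 : charDegree (ψ : G → ℂ) = 14
        · have hm : ψ ∈ S14 := Finset.mem_filter.mpr ⟨hψR, h14⟩
          rw [hpeq, Finset.mem_insert, Finset.mem_singleton] at hm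
          rcases hm with e | e
          exacts [⟨5, e.symm⟩, ⟨6, e.symm⟩]
        · have hm : ψ ∈ S21 := Finset.mem_filter.mpr ⟨hψR, h14⟩
          rw [hqeq, Finset.mem_singleton] at hm
          exact ⟨7, hm.symm⟩
      · have hm : ψ ∈ W := Finset.mem_sdiff.mpr ⟨Finset.mem_univ ψ, by simp [hψF, hψR]⟩
        rw [hweq, Finset.mem_singleton] at hm
        exact ⟨8, hm.symm⟩
  have hnotF : ∀ i : Fin 9, 5 ≤ (i : ℕ) → χ i ∉ [oneChar G, D.χA, D.χB, D.θ, D.θ'] := by
    intro i hi hm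
    have key : ∀ j : Fin 9, (j : ℕ) < 5 → χ j = χ i → False := fun j hj e => by
      have := hbij.1 e
      omega
    simp only [List.mem_cons, List.not_mem_nil, or_false] at hm
    rcases hm with e | e | e | e | e
    exacts [key 0 (by decide) e.symm, key 1 (by decide) e.symm, key 2 (by decide) e.symm, key 3 (by decide) e.symm,
      key 4 (by decide) e.symm]
  refine ⟨⟨χ, hbij, hdeg, rfl, D.u, D.hu, ?_, ?_, ?_, fun i hi g hg => (D.out _ (hnotF i hi)).2 g hg, ?_, ?_⟩⟩
  · show (D.χA : G → ℂ) D.u = 1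
    rw [D.valA, hsA, Int.cast_one]
  · show (D.χB : G → ℂ) D.u = -1
    rw [D.valB, hsB, Int.cast_neg, Int.cast_one]
  · show (D.θ : G → ℂ) D.u + (D.θ' : G → ℂ) D.u = -1
    rw [D.valθ, hε, Int.cast_one]
  · intro g hg
    obtain ⟨h1, h2⟩ := D.rel g hg
    refine ⟨?_, h2⟩
    show (D.θ : G → ℂ) g = 1 + (D.χA : G → ℂ) g - (D.χB : G → ℂ) g
    rw [h1, hsA, hsB, hε]
    push_cast; ring
  · intro g hg
    show 1 + (D.χB : G → ℂ) g - (p : G → ℂ) g - (p' : G → ℂ) g + (q : G → ℂ) g = 0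
    have hZset : Z = {oneChar G, D.χB, p, p', q} := by
      ext ψ
      simp only [Finset.mem_insert, Finset.mem_singleton]
      constructor
      · intro hψ
        by_cases hψF : ψ ∈ F
        · rcases (hFZ ψ hψF).mp hψ with e | e
          exacts [.inl e, .inr (.inl e)]
        · have hψR : ψ ∈ R := Finset.mem_sdiff.mpr ⟨hψ, hψF⟩
          by_cases h14 : charDegree (ψ : G → ℂ) = 14
          · have hm : ψ ∈ S14 := Finset.mem_filter.mpr ⟨hψR, h14⟩
            rw [hpeq, Finset.mem_insert, Finset.mem_singleton] at hm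
            tauto
          · have hm : ψ ∈ S21 := Finset.mem_filter.mpr ⟨hψR, h14⟩
            rw [hqeq, Finset.mem_singleton] at hm
            tauto
      · rintro (e | e | e | e | e) <;> subst e
        · exact (hFZ _ ((hFmem _).mpr (.inl rfl))).mpr (.inl rfl)
        · exact (hFZ _ ((hFmem _).mpr (.inr (.inr (.inl rfl))))).mpr (.inr rfl)
        · exact (Finset.mem_sdiff.mp (Finset.mem_filter.mp hpm).1).1
        · exact (Finset.mem_sdiff.mp (Finset.mem_filter.mp hpm').1).1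
        · exact (Finset.mem_sdiff.mp (Finset.mem_filter.mp hqm).1).1
    have hsgn : ∀ ψ ∈ Z, ∀ d : ℕ, charDegree (ψ : G → ℂ) = d → ∀ σ : ℤ, (σ = 1 ∨ σ = -1) → (d : ℤ) % 5 = σ % 5 → s ψ = σ := by
      intro ψ hψ d hd' σ hσ hm
      obtain ⟨h1, h2⟩ := hs ψ hψ
      rw [hd'] at h2
      unfold Int.ModEq at h2
      rcases h1 with e | e <;> rcases hσ with e' | e' <;> rw [e] at h2 ⊢ <;> rw [e'] at hm ⊢ <;> omega
    have hmZ : ∀ ψ, (ψ = oneChar G ∨ ψ = D.χB ∨ ψ = p ∨ ψ = p' ∨ ψ = q) → ψ ∈ Z := fun ψ hψ => by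
      rw [hZset]; simpa using hψ
    have s1 := hsgn _ (hmZ _ (.inl rfl)) 1 h1deg 1 (.inl rfl) (by norm_num)
    have s2 := hsgn _ (hmZ _ (.inr (.inl rfl))) 6 hdegB 1 (.inl rfl) (by norm_num)
    have s3 := hsgn _ (hmZ _ (.inr (.inr (.inl rfl)))) 14 hdp (-1) (.inr rfl) (by norm_num)
    have s4 := hsgn _ (hmZ _ (.inr (.inr (.inr (.inl rfl))))) 14 hdp' (-1) (.inr rfl) (by norm_num)
    have s5 := hsgn _ (hmZ _ (.inr (.inr (.inr (.inr rfl))))) 21 hdq 1 (.inl rfl) (by norm_num)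
    have hne : ∀ {a b : IrrCharacter G}, charDegree (a : G → ℂ) ≠ charDegree (b : G → ℂ) → a ≠ b := fun hne e =>
      hne (e ▸ rfl)
    have h0 := hrelZ g hg
    rw [hZset, Finset.sum_insert (by
        simp [hne (a := oneChar G) (b := D.χB) (by omega), hne (a := oneChar G) (b := p) (by omega),
          hne (a := oneChar G) (b := p') (by omega), hne (a := oneChar G) (b := q) (by omega)]),
      Finset.sum_insert (by
        simp [hne (a := D.χB) (b := p) (by omega), hne (a := D.χB) (b := p') (by omega), hne (a := D.χB) (b := q) (by omega)]),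
      Finset.sum_insert (by simp [hpne, hne (a := p) (b := q) (by omega)]),
      Finset.sum_pair (hne (a := p') (b := q) (by omega)), s1, s2, s3, s4, s5, oneChar_apply] at h0
    push_cast at h0
    linear_combination h0

end

/-- Nine terms. -/
theorem sum_nine {M : Type*} [AddCommMonoid M] (F : Fin 9 → M) :
    ∑ i, F i = F 0 + F 1 + F 2 + F 3 + F 4 + F 5 + F 6 + F 7 + F 8 := by
  simp only [Fin.sum_univ_succ, Fin.sum_univ_zero, add_zero, add_assoc]
  rfl

theorem key_two : ∀ x5 ∈ ([-2, 2] : List ℤ), ∀ x6 ∈ ([-2, 2] : List ℤ), ∀ x7 ∈ ([-3, -1, 1, 3] : List ℤ),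
    ∀ x8 ∈ ([-3, -1, 1, 3] : List ℤ), ∀ b ∈ ([-2, 2] : List ℤ),
    x7 = x5 + x6 - 1 - b → 1 - 15 + 6 * b - 20 * b + 14 * (x5 + x6) + 21 * x7 + 35 * x8 = 0 →
    x5 * x5 + x6 * x6 + x7 * x7 + x8 * x8 = 10 →
    (b = 2 ∧ x5 = 2 ∧ x6 = 2 ∧ x7 = 1 ∧ x8 = -1) ∨ (b = -2 ∧ x5 + x6 = 0 ∧ x7 = 1 ∧ x8 = -1) := by decide +kernel

theorem bound_of_sq {x : ℤ} (h : x * x ≤ 10) : -3 ≤ x ∧ x ≤ 3 := by
  constructor <;> nlinarith

namespace Table

variable {G : Type u} [Group G] [Fintype G] (T : Table G)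

theorem sum_eq (F : IrrCharacter G → ℂ) : ∑ ψ, F ψ = ∑ i, F (T.χ i) := (T.bij.sum_comp F).symm

theorem map_one_eq (i : Fin 9) : (T.χ i : G → ℂ) 1 = (degs i : ℂ) := by rw [← coe_charDegree, T.deg]

theorem one_apply (g : G) : (T.χ 0 : G → ℂ) g = 1 := by rw [T.one, oneChar_apply]

theorem ne_one {i : Fin 9} (hi : i ≠ 0) : T.χ i ≠ oneChar G := fun e => hi (T.bij.1 (e.trans T.one.symm))

theorem orth_one {g : G} (hg : g ≠ 1) : ∑ i, (degs i : ℂ) * (T.χ i : G → ℂ) g = 0 := by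
  have h1 := sum_irr_map_one_mul g
  rw [if_neg hg, T.sum_eq] at h1
  simp only [T.map_one_eq] at h1
  exact h1

/-- The values on an involution. -/
def tv : Fin 9 → ℤ := ![1, -1, 2, -2, -2, 2, 2, 1, -1]

variable [IsSimpleGroup G] (h : Nat.card G = 2520)

include h

theorem centralizer_two {t : G} (ht : orderOf t = 2) : Nat.card (centralizer ({t} : Set G)) = 24 := by
  obtain ⟨D⟩ := exists_blockSeven h
  exact (D.involution_data h ht (D.c_ne_three h)).2.2.2

set_option maxHeartbeats 1000000 in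
theorem value_two {t : G} (ht : orderOf t = 2) (i : Fin 9) : (T.χ i : G → ℂ) t = tv i := by
  classical
  have hc := not_comm_2520 h
  have ht1 : t ≠ 1 := fun e => by rw [e, orderOf_one] at ht; norm_num at ht
  choose f hf using fun i => CfsgLib.Blocks.AbelianFrobenius.exists_int_apply_two (T.χ i) ht
  have h4 : ∀ i, (4 : ℤ) ∣ (degs i : ℤ) - f i := fun i => T.deg i ▸ four_dvd_sub_of_involution hc (T.χ i) ht (hf i)
  obtain ⟨D⟩ := exists_blockSeven h
  obtain ⟨hA, hB, -⟩ := D.data h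
  obtain ⟨-, ha, hb, -⟩ := D.involution_data h ht (D.c_ne_three h)
  have huniq : ∀ j : Fin 9, (j = 1 ∨ j = 2) → ∀ ψ : IrrCharacter G, charDegree (ψ : G → ℂ) = degs j → ψ = T.χ j := by
    intro j hj ψ hψ
    obtain ⟨k, rfl⟩ := T.bij.2 ψ
    rw [T.deg] at hψ
    have key : ∀ k j : Fin 9, (j = 1 ∨ j = 2) → degs k = degs j → k = j := by decide +kernel
    rw [key k j hj hψ]
  have h1 : f 1 = -1 := by
    rw [huniq 1 (.inl rfl) D.χA (D.degA.trans hA), hf 1] at ha
    exact_mod_cast ha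
  have h2 : f 2 = 2 ∨ f 2 = -2 := by
    rw [huniq 2 (.inr rfl) D.χB (D.degB.trans hB), hf 2] at hb
    rcases hb with e | e
    · left; exact_mod_cast e
    · right; exact_mod_cast e
  have h0 : f 0 = 1 := by
    have := hf 0
    rw [T.one_apply] at this
    exact_mod_cast this.symm
  obtain ⟨r3, r4⟩ := T.rel7 t (by rw [ht]; norm_num)
  rw [hf 3, hf 1, hf 2] at r3
  rw [hf 4, hf 3] at r4
  have e3 : f 3 = 1 + f 1 - f 2 := by exact_mod_cast r3
  have e4 : f 4 = f 3 := by exact_mod_cast r4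
  have r5 := T.rel5 t (by rw [ht]; norm_num)
  rw [hf 2, hf 5, hf 6, hf 7] at r5
  have e5 : 1 + f 2 - f 5 - f 6 + f 7 = 0 := by exact_mod_cast r5
  have e6 : ∑ i, (degs i : ℤ) * f i = 0 := by
    have := T.orth_one ht1
    simp only [hf] at this
    exact_mod_cast this
  have e7 : ∑ i, f i * f i = 24 := by
    have hcol := sum_irr_mul_conj t t
    rw [if_pos (IsConj.refl t), centralizer_two h ht, T.sum_eq] at hcol
    simp only [hf, map_intCast] at hcol
    exact_mod_cast hcol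
  rw [sum_nine] at e6 e7
  have hd : degs 0 = 1 ∧ degs 1 = 15 ∧ degs 2 = 6 ∧ degs 3 = 10 ∧ degs 4 = 10 ∧ degs 5 = 14 ∧ degs 6 = 14 ∧
      degs 7 = 21 ∧ degs 8 = 35 := by decide
  obtain ⟨d0, d1, d2, d3, d4, d5, d6, d7, d8⟩ := hd
  rw [d0, d1, d2, d3, d4, d5, d6, d7, d8, e4, e3, h0, h1] at e6
  rw [e4, e3, h0, h1] at e7
  have h25 := h4 5
  have h26 := h4 6
  have h27 := h4 7
  have h28 := h4 8
  rw [d5] at h25
  rw [d6] at h26
  rw [d7] at h27
  rw [d8] at h28
  have hsq : f 5 * f 5 + f 6 * f 6 + f 7 * f 7 + f 8 * f 8 = 10 := by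
    rcases h2 with e | e <;> rw [e] at e7 <;> linarith
  have b5 : -3 ≤ f 5 ∧ f 5 ≤ 3 := bound_of_sq (by linarith [mul_self_nonneg (f 6), mul_self_nonneg (f 7), mul_self_nonneg (f 8)])
  have b6 : -3 ≤ f 6 ∧ f 6 ≤ 3 := bound_of_sq (by linarith [mul_self_nonneg (f 5), mul_self_nonneg (f 7), mul_self_nonneg (f 8)])
  have b7 : -3 ≤ f 7 ∧ f 7 ≤ 3 := bound_of_sq (by linarith [mul_self_nonneg (f 5), mul_self_nonneg (f 6), mul_self_nonneg (f 8)])
  have b8 : -3 ≤ f 8 ∧ f 8 ≤ 3 := bound_of_sq (by linarith [mul_self_nonneg (f 5), mul_self_nonneg (f 6), mul_self_nonneg (f 7)])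
  have hk := key_two (f 5) (by simp only [List.mem_cons, List.not_mem_nil, or_false]; omega)
    (f 6) (by simp only [List.mem_cons, List.not_mem_nil, or_false]; omega)
    (f 7) (by simp only [List.mem_cons, List.not_mem_nil, or_false]; omega)
    (f 8) (by simp only [List.mem_cons, List.not_mem_nil, or_false]; omega)
    (f 2) (by simp only [List.mem_cons, List.not_mem_nil, or_false]; omega)
    (by omega) (by omega) hsq
  rcases hk with ⟨k2, k5, k6, k7, k8⟩ | ⟨k2, k56, k7, k8⟩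
  · rw [hf]
    congr 1
    fin_cases i <;> simp [tv] <;> omega
  · exfalso
    have hN := CfsgLib.M11Order.sum_triple t t t
    rw [centralizer_two h ht, h, T.sum_eq, sum_nine] at hN
    simp only [hf, map_intCast, T.map_one_eq, d0, d1, d2, d3, d4, d5, d6, d7, d8] at hN
    rw [e4, e3, h0, h1, k2, k7, k8, show f 6 = -f 5 by omega] at hN
    have hdvd := card_centralizer_dvd_solutions t t t
    rw [centralizer_two h ht] at hdvd
    set N := Nat.card {b : G // IsConj (t * (b * t * b⁻¹)) t}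
    have hN' : (24 : ℂ) * N = ((3072 : ℕ) : ℂ) := by
      push_cast at hN ⊢
      linear_combination -hN
    have : 24 * N = 3072 := by exact_mod_cast hN'
    omega

end Table

end CfsgLib.A7Order
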