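import Cfsg.Agent.M11Order.Base
import Cfsg.Agent.Chars.Induced.Det
import Mathlib

/-!
# Character values and fixed spaces: Scott's inequality, involutions in simple groups
-/

set_option autoImplicit false
set_option linter.style.haveILetI false

namespace CfsgLib.A7Order

open Cfsg CfsgLib.Chars Representation Module

universe u

variable {G : Type u} [Group G] {n : ℕ}

/-- The sum of a character over a subgroup counts the fixed space. -/
theorem sum_character_eq (ρ : Representation ℂ G (Fin n → ℂ)) (H : Subgroup G) [Fintype H] :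
    ∑ g : H, ρ.character (g : G) =
      (Nat.card H : ℂ) * finrank ℂ (invariants (ρ.comp H.subtype : Representation ℂ H (Fin n → ℂ))) := by
  letI : Invertible (Nat.card H : ℂ) := invertibleOfNonzero (by exact_mod_cast Nat.card_pos.ne')
  have h := card_inv_mul_sum_char_eq_finrank (ρ.comp H.subtype : Representation ℂ H (Fin n → ℂ))
  rw [← h, ← mul_assoc, mul_inv_cancel₀ (by exact_mod_cast Nat.card_pos.ne'), one_mul]
  rfl

/-- The fixed space of an element is the fixed space of the subgroup it generates. -/
theorem invariants_zpowers (ρ : Representation ℂ G (Fin n → ℂ)) (g : G) :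
    invariants (ρ.comp (Subgroup.zpowers g).subtype : Representation ℂ (Subgroup.zpowers g) (Fin n → ℂ)) =
      LinearMap.ker (ρ g - 1) := by
  ext v
  rw [mem_invariants, LinearMap.mem_ker, LinearMap.sub_apply, Module.End.one_apply, sub_eq_zero]
  constructor
  · exact fun h => h ⟨g, Subgroup.mem_zpowers g⟩
  · rintro h ⟨x, hx⟩
    show ρ x v = v
    rw [Subgroup.zpowers_eq_closure] at hx
    induction hx using Subgroup.closure_induction with
    | mem y hy => rw [Set.mem_singleton_iff.mp hy]; exact h
    | one => rw [map_one]; rfl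
    | mul a b _ _ ha hb => rw [map_mul, Module.End.mul_apply, hb, ha]
    | inv a _ ha =>
      conv_lhs => rw [← ha]
      rw [← Module.End.mul_apply, ← map_mul, inv_mul_cancel, map_one]
      rfl

/-- The dimension of the fixed space of an element, from the character values on its powers. -/
theorem finrank_ker_eq [Finite G] (ρ : Representation ℂ G (Fin n → ℂ)) (g : G) :
    (orderOf g : ℂ) * finrank ℂ (LinearMap.ker (ρ g - 1)) = ∑ i ∈ Finset.range (orderOf g), ρ.character (g ^ i) := by
  classical
  letI := Fintype.ofFinite (Subgroup.zpowers g)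
  have h := sum_character_eq ρ (Subgroup.zpowers g)
  rw [invariants_zpowers, Nat.card_zpowers] at h
  rw [← h]
  symm
  refine Finset.sum_bij (fun i _ => (⟨g ^ i, Subgroup.pow_mem _ (Subgroup.mem_zpowers g) i⟩ : Subgroup.zpowers g))
    (fun i _ => Finset.mem_univ _) (fun i hi j hj e => ?_) (fun x _ => ?_) (fun i _ => rfl)
  · exact pow_injOn_Iio_orderOf (Finset.mem_range.1 hi) (Finset.mem_range.1 hj) (congrArg Subtype.val e)
  · obtain ⟨i, hi, hix⟩ := Finset.mem_image.mp ((mem_zpowers_iff_mem_range_orderOf).mp x.2)
    exact ⟨i, hi, Subtype.ext hix⟩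

/-- Scott's inequality: two generators and their product cannot fix too much in a representation
without fixed points. -/
theorem finrank_ker_add_le [Fintype G] (ρ : Representation ℂ G (Fin n → ℂ)) (h0 : ∑ g : G, ρ.character g = 0)
    {x y : G} (hgen : Subgroup.closure ({x, y} : Set G) = ⊤) :
    finrank ℂ (LinearMap.ker (ρ x - 1)) + finrank ℂ (LinearMap.ker (ρ y - 1)) +
      finrank ℂ (LinearMap.ker (ρ (x * y) - 1)) ≤ n := by
  have hG : (Nat.card G : ℂ) ≠ 0 := by exact_mod_cast Nat.card_pos.ne'
  letI : Invertible (Nat.card G : ℂ) := invertibleOfNonzero hG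
  haveI : Invertible (Fintype.card G : ℂ) := by rw [Fintype.card_eq_nat_card]; assumption
  have hinv : invariants ρ = ⊥ := by
    rw [← Submodule.finrank_eq_zero]
    have h := card_inv_mul_sum_char_eq_finrank ρ
    rw [h0, mul_zero] at h
    exact_mod_cast h.symm
  set a := ρ x - 1 with ha
  set b := ρ y - 1 with hb
  set z := (x * y)⁻¹ with hz
  set c := ρ z - 1 with hc
  let W := LinearMap.range a × LinearMap.range b × LinearMap.range c
  let β : (Fin n → ℂ) →ₗ[ℂ] W := a.rangeRestrict.prod (b.rangeRestrict.prod c.rangeRestrict)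
  let δ : W →ₗ[ℂ] (Fin n → ℂ) :=
    (LinearMap.range a).subtype.coprod
      ((ρ x).comp (LinearMap.range b).subtype |>.coprod ((ρ (x * y)).comp (LinearMap.range c).subtype))
  have hfix : ∀ v, ρ x v = v → ρ y v = v → v = 0 := by
    intro v h1 h2
    have hmem : v ∈ invariants ρ := by
      intro g
      have hg : g ∈ Subgroup.closure ({x, y} : Set G) := hgen ▸ Subgroup.mem_top g
      induction hg using Subgroup.closure_induction with
      | mem w hw => rcases hw with rfl | hw; exacts [h1, (Set.mem_singleton_iff.mp hw) ▸ h2]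
      | one => rw [map_one]; rfl
      | mul g h _ _ hg hh => rw [map_mul, Module.End.mul_apply, hh, hg]
      | inv g _ hg =>
        conv_lhs => rw [← hg]
        rw [← Module.End.mul_apply, ← map_mul, inv_mul_cancel, map_one]
        rfl
    rwa [hinv, Submodule.mem_bot] at hmem
  have hβ : Function.Injective β := by
    rw [← LinearMap.ker_eq_bot, eq_bot_iff]
    intro v hv
    rw [LinearMap.mem_ker] at hv
    have h1 : a v = 0 := congrArg (fun w : W => (w.1 : Fin n → ℂ)) hv
    have h2 : b v = 0 := congrArg (fun w : W => (w.2.1 : Fin n → ℂ)) hv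
    rw [ha, LinearMap.sub_apply, Module.End.one_apply, sub_eq_zero] at h1
    rw [hb, LinearMap.sub_apply, Module.End.one_apply, sub_eq_zero] at h2
    exact hfix v h1 h2
  have hδ : LinearMap.range δ = ⊤ := by
    have hI : ∀ g : G, ∀ v, ρ g v - v ∈ LinearMap.range δ := by
      intro g
      have hg : g ∈ Subgroup.closure ({x, y} : Set G) := hgen ▸ Subgroup.mem_top g
      have hax : ∀ v, ρ x v - v ∈ LinearMap.range δ := fun v =>
        ⟨(⟨a v, v, rfl⟩, 0, 0), by
          show a v + (ρ x 0 + ρ (x * y) 0) = _
          rw [map_zero, map_zero, add_zero, add_zero]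
          rfl⟩
      have hby : ∀ v, ρ x (ρ y v - v) ∈ LinearMap.range δ := fun v =>
        ⟨(0, ⟨b v, v, rfl⟩, 0), by
          show (0 : Fin n → ℂ) + (ρ x (b v) + ρ (x * y) 0) = _
          rw [map_zero, zero_add, add_zero]
          rfl⟩
      induction hg using Subgroup.closure_induction with
      | mem w hw =>
        intro v
        rcases hw with rfl | hw
        · exact hax v
        · rw [Set.mem_singleton_iff.mp hw]
          have h := sub_mem (hby v) (hax (ρ y v - v))
          rwa [sub_sub_cancel] at h
      | one => intro v; simp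
      | mul g h _ _ hg hh =>
        intro v
        have h' := add_mem (hg (ρ h v)) (hh v)
        rwa [sub_add_sub_cancel, ← Module.End.mul_apply, ← map_mul] at h'
      | inv g _ hg =>
        intro v
        have h' := neg_mem (hg (ρ g⁻¹ v))
        rwa [neg_sub, ← Module.End.mul_apply, ← map_mul, mul_inv_cancel, map_one, Module.End.one_apply] at h'
    rw [eq_top_iff]
    intro v _
    have hav : averageMap ρ v = 0 := by
      have := averageMap_invariant ρ v
      rwa [hinv, Submodule.mem_bot] at this
    have hsum : ∑ g : G, (v - ρ g v) ∈ LinearMap.range δ :=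
      Submodule.sum_mem _ fun g _ => by simpa using neg_mem (hI g v)
    have hs0 : ∑ g : G, ρ g v = 0 := by
      have : averageMap ρ v = (Fintype.card G : ℂ)⁻¹ • ∑ g : G, ρ g v := by
        simp [averageMap, GroupAlgebra.average, map_sum]
      rw [this] at hav
      exact (smul_eq_zero.mp hav).resolve_left (inv_ne_zero (by rw [Fintype.card_eq_nat_card]; exact hG))
    rw [Finset.sum_sub_distrib, hs0, sub_zero, Finset.sum_const, Finset.card_univ, ← Nat.cast_smul_eq_nsmul ℂ] at hsum
    have := Submodule.smul_mem _ ((Fintype.card G : ℂ)⁻¹) hsum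
    rwa [smul_smul, inv_mul_cancel₀ (by rw [Fintype.card_eq_nat_card]; exact hG), one_smul] at this
  have hcomp : LinearMap.range β ≤ LinearMap.ker δ := by
    rintro _ ⟨v, rfl⟩
    rw [LinearMap.mem_ker]
    have hzv : ρ (x * y) (ρ z v) = v := by
      rw [← Module.End.mul_apply, ← map_mul, hz, mul_inv_cancel, map_one]
      rfl
    show a v + (ρ x (b v) + ρ (x * y) (c v)) = 0
    rw [ha, hb, hc, LinearMap.sub_apply, LinearMap.sub_apply, LinearMap.sub_apply, Module.End.one_apply,
      map_sub, map_sub, hzv, map_mul, Module.End.mul_apply]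
    abel
  have h1 := LinearMap.finrank_range_add_finrank_ker δ
  rw [hδ, finrank_top, finrank_fin_fun] at h1
  have h2 : finrank ℂ (LinearMap.range β) ≤ finrank ℂ (LinearMap.ker δ) := Submodule.finrank_mono hcomp
  rw [LinearMap.finrank_range_of_inj hβ, finrank_fin_fun] at h2
  have hW : finrank ℂ W = finrank ℂ (LinearMap.range a) + (finrank ℂ (LinearMap.range b) + finrank ℂ (LinearMap.range c)) := by
    rw [finrank_prod, finrank_prod]
  have e1 := LinearMap.finrank_range_add_finrank_ker a
  have e2 := LinearMap.finrank_range_add_finrank_ker b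
  have e3 := LinearMap.finrank_range_add_finrank_ker c
  rw [finrank_fin_fun] at e1 e2 e3
  have hker : LinearMap.ker c = LinearMap.ker (ρ (x * y) - 1) := by
    ext v
    rw [hc, LinearMap.mem_ker, LinearMap.mem_ker, LinearMap.sub_apply, LinearMap.sub_apply, Module.End.one_apply,
      sub_eq_zero, sub_eq_zero, hz]
    constructor
    · intro h
      conv_lhs => rw [← h]
      rw [← Module.End.mul_apply, ← map_mul, mul_inv_cancel, map_one]
      rfl
    · intro h
      conv_lhs => rw [← h]
      rw [← Module.End.mul_apply, ← map_mul, inv_mul_cancel, map_one]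
      rfl
  rw [hker] at e3
  omega

/-- In a non-commutative simple group an involution acts by determinant one: the character value is
congruent to the degree modulo four. -/
theorem four_dvd_sub_of_involution [Finite G] [IsSimpleGroup G] (hc : ¬ IsMulCommutative G) (χ : IrrCharacter G)
    {t : G} (ht : orderOf t = 2) {a : ℤ} (ha : (χ : G → ℂ) t = a) :
    (4 : ℤ) ∣ (charDegree (χ : G → ℂ) : ℤ) - a := by
  obtain ⟨m, ρ, -, hρ⟩ := χ.2
  have hdeg : charDegree (χ : G → ℂ) = m := charDegree_eq_of_map_one (by
    rw [← hρ, Representation.char_one, finrank_fin_fun])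
  have hdet : LinearMap.det (ρ t) = 1 := by
    rcases IsSimpleGroup.eq_bot_or_eq_top_of_normal (CfsgLib.Chars.Induced.repDet ρ).ker inferInstance with e | e
    · exact absurd ⟨⟨fun p q => (MonoidHom.ker_eq_bot_iff _).mp e (by rw [map_mul, map_mul, mul_comm])⟩⟩ hc
    · have h1 : CfsgLib.Chars.Induced.repDet ρ t = 1 := MonoidHom.mem_ker.mp (e ▸ Subgroup.mem_top t)
      rw [← CfsgLib.Chars.Induced.repDet_apply, h1, Units.val_one]
  set A := ρ t with hA
  have hAA : ∀ v, A (A v) = v := fun v => by
    rw [← Module.End.mul_apply, hA, ← map_mul, ← sq, ← ht, pow_orderOf_eq_one, map_one]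
    rfl
  set p := LinearMap.ker (A - 1) with hp
  set q := LinearMap.ker (A + 1) with hq
  have hpq : IsCompl p q := by
    constructor
    · rw [Submodule.disjoint_def]
      intro v hv hv'
      rw [hp, LinearMap.mem_ker, LinearMap.sub_apply, Module.End.one_apply, sub_eq_zero] at hv
      rw [hq, LinearMap.mem_ker, LinearMap.add_apply, Module.End.one_apply, hv] at hv'
      funext i
      have := congrFun hv' i
      simpa using this
    · rw [codisjoint_iff, eq_top_iff]
      intro v _
      refine Submodule.mem_sup.mpr ⟨(2⁻¹ : ℂ) • (v + A v), ?_, (2⁻¹ : ℂ) • (v - A v), ?_, by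
        rw [← smul_add, add_add_sub_cancel, ← two_smul ℂ v, smul_smul]; norm_num⟩
      · rw [hp, LinearMap.mem_ker, LinearMap.sub_apply, Module.End.one_apply, map_smul, map_add, hAA,
          add_comm (A v), sub_self]
      · rw [hq, LinearMap.mem_ker, LinearMap.add_apply, Module.End.one_apply, map_smul, map_sub, hAA,
          ← smul_add, sub_add_sub_cancel, sub_self, smul_zero]
  let e := Submodule.prodEquivOfIsCompl p q hpq
  have hconj : A = e.conj (LinearMap.id.prodMap (-LinearMap.id)) := by
    refine LinearMap.ext fun v => ?_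
    obtain ⟨⟨⟨v1, h1⟩, ⟨v2, h2⟩⟩, rfl⟩ := e.surjective v
    rw [LinearEquiv.conj_apply_apply, e.symm_apply_apply]
    rw [hp, LinearMap.mem_ker, LinearMap.sub_apply, Module.End.one_apply, sub_eq_zero] at h1
    rw [hq, LinearMap.mem_ker, LinearMap.add_apply, Module.End.one_apply, add_eq_zero_iff_eq_neg] at h2
    simp [e, h1, h2]
  have htr : (χ : G → ℂ) t = (finrank ℂ p : ℂ) - finrank ℂ q := by
    rw [← hρ]
    show LinearMap.trace ℂ _ A = _
    rw [hconj, LinearMap.trace_conj', LinearMap.trace_prodMap', ← neg_one_smul ℂ (LinearMap.id : q →ₗ[ℂ] q), map_smul, LinearMap.trace_id, LinearMap.trace_id, smul_eq_mul, neg_one_mul,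
      sub_eq_add_neg]
  have hd : ((-1 : ℂ) ^ finrank ℂ q) = 1 := by
    rw [hconj, LinearEquiv.conj_apply, LinearMap.comp_assoc, LinearMap.det_conj, LinearMap.det_prodMap,
      LinearMap.det_id, one_mul, ← neg_one_smul ℂ (LinearMap.id : q →ₗ[ℂ] q), LinearMap.det_smul,
      LinearMap.det_id, mul_one] at hdet
    exact hdet
  have hsum := Submodule.finrank_add_eq_of_isCompl hpq
  rw [finrank_fin_fun] at hsum
  obtain ⟨k, hk⟩ := (neg_one_pow_eq_one_iff_even (by norm_num : (-1 : ℂ) ≠ 1)).mp hd
  rw [htr] at ha
  have ha' : (finrank ℂ p : ℤ) - finrank ℂ q = a := by exact_mod_cast ha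
  exact ⟨k, by omega⟩

/-- If a subgroup has no fixed vector, the character sums over its cosets vanish. -/
theorem sum_coset_eq_zero [Finite G] (χ : IrrCharacter G) (H : Subgroup G) [Fintype H]
    (h : ∑ g : H, (χ : G → ℂ) g = 0) (s : G) : ∑ g : H, (χ : G → ℂ) (s * g) = 0 := by
  obtain ⟨m, ρ, -, hρ⟩ := χ.2
  rw [← hρ] at h ⊢
  set σ : Representation ℂ H (Fin m → ℂ) := ρ.comp H.subtype
  rw [sum_character_eq] at h
  have hinv : invariants σ = ⊥ := by
    rw [← Submodule.finrank_eq_zero]
    exact_mod_cast (mul_eq_zero.mp h).resolve_left (by exact_mod_cast Nat.card_pos.ne')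
  have hzero : ∑ g : H, ρ (g : G) = 0 := by
    refine LinearMap.ext fun v => ?_
    have hmem : (∑ g : H, ρ (g : G)) v ∈ invariants σ := by
      intro k
      show ρ (k : G) _ = _
      simp only [LinearMap.coe_sum, Finset.sum_apply, map_sum]
      exact Fintype.sum_equiv (Equiv.mulLeft k) _ _ fun g => by
        rw [← Module.End.mul_apply, ← map_mul]; rfl
    rw [hinv, Submodule.mem_bot] at hmem
    rw [hmem]; rfl
  simp only [Representation.character, map_mul]
  rw [← map_sum, ← Finset.mul_sum, hzero, mul_zero, map_zero]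

end CfsgLib.A7Order
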